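/-
Character values on elements of order 6 and 10 with real classes, and the vanishing of
multiplicities of the trivial character under enlarging a subgroup.
-/
import Cfsg.Agent.Lib.Characters.Complete
import Cfsg.Agent.Lib.Characters.Diag

set_option autoImplicit false

namespace Cfsg.Agent.Lib.J1Order.Eigen

open Cfsg.Agent.Lib.Characters.Basic
open scoped ComplexConjugate

universe u

variable {G : Type u} [Group G]

/-- A primitive fifth root of unity. -/
noncomputable def rho : ℂ := Complex.exp (2 * Real.pi * Complex.I / (5 : ℕ))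

theorem rho_prim : IsPrimitiveRoot rho 5 := Complex.isPrimitiveRoot_exp 5 (by norm_num)

theorem rho_mod (k : ℕ) : rho ^ k = rho ^ (k % 5) := pow_eq_pow_mod k rho_prim.pow_eq_one

/-- The first Gauss period. -/
noncomputable def beta : ℂ := rho + rho ^ 4

/-- The second Gauss period. -/
noncomputable def beta' : ℂ := rho ^ 2 + rho ^ 3

theorem beta_add : 1 + beta + beta' = 0 := by
  have h := rho_prim.geom_sum_eq_zero (by norm_num)
  simp only [Finset.sum_range_succ, Finset.sum_range_zero, zero_add, pow_zero, pow_one] at h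
  rw [beta, beta']; linear_combination h

theorem beta_sq : beta * beta + beta - 1 = 0 := by
  have h := beta_add
  have h5 := rho_prim.pow_eq_one
  rw [beta, beta'] at *
  linear_combination (rho ^ 3 + 2) * h5 + h

theorem int_lin {a b : ℤ} (h : (a : ℂ) + b * beta = 0) : a = 0 ∧ b = 0 := by
  have key : ((2 * a - b) * (2 * a - b) : ℤ) = 5 * (b * b) := by
    have : (((2 * a - b) * (2 * a - b) : ℤ) : ℂ) = ((5 * (b * b) : ℤ) : ℂ) := by
      push_cast
      linear_combination (4 * ((a : ℂ) - b * beta) - 4 * b) * h + 4 * (b : ℂ) ^ 2 * beta_sq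
    exact_mod_cast this
  by_cases hb : b = 0
  · exact ⟨by subst hb; simpa using h, hb⟩
  exfalso
  have : IsSquare ((5 : ℕ) : ℚ) := ⟨((2 * a - b : ℤ) : ℚ) / b, by
    have hb' : (b : ℚ) ≠ 0 := by exact_mod_cast hb
    field_simp
    have h2 := congrArg (fun z : ℤ => (z : ℚ)) key
    push_cast at h2 ⊢
    linear_combination -h2⟩
  rw [Rat.isSquare_natCast_iff] at this
  obtain ⟨r, hr⟩ := this
  have : r ≤ 5 := by nlinarith
  interval_cases r <;> omega

/-- The values on the powers of an element through one list of eigenvalues. -/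
theorem exists_powers (χ : Cfsg.IrrCharacter G) (g : G) {N : ℕ} (hN : N ≠ 0) (hg : g ^ N = 1) :
    ∃ (ι : Type) (_ : Fintype ι) (z : ι → ℂ),
      (∀ i, z i ^ N = 1) ∧ ∀ e : ℕ, (χ : G → ℂ) (g ^ e) = ∑ i, z i ^ e := by
  obtain ⟨n, ρ, -, hχ⟩ := exists_rep χ
  obtain ⟨ι, hι, b, ζ, hb, -, -⟩ := Characters.Diag.exists_eigenbasis ρ g hN hg
  refine ⟨ι, hι, ζ, fun i => (hb i).2, fun e => ?_⟩
  rw [← hχ]
  have h2 : ∀ i, (ρ (g ^ e)) (b i) = ζ i ^ e • b i := by
    intro i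
    rw [map_pow]
    induction e with
    | zero => simp
    | succ k ih => rw [pow_succ, Module.End.mul_apply, (hb i).1, map_smul, ih, smul_smul, pow_succ']
  exact Characters.Diag.trace_eq_sum_eigenvalues b _ _ h2

/-- An element whose tenth power is trivial, conjugate to its inverse. -/
theorem values_ten (χ : Cfsg.IrrCharacter G) {g : G} (hg : g ^ 10 = 1) (hreal : IsConj g g⁻¹) :
    ∃ N0 N1 N2 M0 M1 M2 : ℤ, (χ : G → ℂ) (g ^ 5) = (N0 + 2 * N1 + 2 * N2 : ℤ) ∧
      (χ : G → ℂ) g = N0 + N1 * beta + N2 * beta' ∧ (χ : G → ℂ) (g ^ 7) = N0 + N1 * beta' + N2 * beta ∧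
      (χ : G → ℂ) (g ^ 6) = M0 + M1 * beta + M2 * beta' ∧ (χ : G → ℂ) (g ^ 2) = M0 + M1 * beta' + M2 * beta ∧
      (2 : ℤ) ∣ N0 - M0 ∧ (2 : ℤ) ∣ N1 - M1 := by
  classical
  obtain ⟨ι, _, z, hz, hv⟩ := exists_powers χ g (by norm_num) hg
  have h6 : ∀ i, ∃ j : Fin 5, rho ^ (j : ℕ) = z i ^ 6 := fun i => by
    obtain ⟨k, hk, he⟩ := rho_prim.eq_pow_of_pow_eq_one (ξ := z i ^ 6)
      (by rw [← pow_mul, show 6 * 5 = 10 * 3 from rfl, pow_mul, hz, one_pow])
    exact ⟨⟨k, hk⟩, he⟩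
  choose j hj using h6
  have h5 : ∀ i, ∃ s : ℤ, (s = 1 ∨ s = -1) ∧ (s : ℂ) = z i ^ 5 := fun i => by
    rcases sq_eq_one_iff.1 (show (z i ^ 5) ^ 2 = 1 by rw [← pow_mul]; exact hz i) with h | h
    · exact ⟨1, Or.inl rfl, by rw [h]; simp⟩
    · exact ⟨-1, Or.inr rfl, by rw [h]; simp⟩
  choose s hs1 hs using h5
  let A : ℕ → Fin 5 → ℤ := fun e k => ∑ i ∈ Finset.univ.filter (fun i => j i = k), s i ^ e
  have hsum : ∀ e : ℕ, (χ : G → ℂ) (g ^ e) = ∑ k : Fin 5, (A e k : ℂ) * rho ^ ((k : ℕ) * e) := by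
    intro e
    rw [hv e, ← Finset.sum_fiberwise Finset.univ j]
    refine Finset.sum_congr rfl fun k _ => ?_
    rw [Int.cast_sum, Finset.sum_mul]
    refine Finset.sum_congr rfl fun i hi => ?_
    rw [← (Finset.mem_filter.1 hi).2, Int.cast_pow, hs, pow_mul, hj, ← mul_pow, ← pow_add,
      show 5 + 6 = 10 + 1 from rfl, pow_add, hz, one_mul, pow_one]
  have hodd : ∀ e : ℕ, Odd e → A e = A 1 := fun e he => funext fun k =>
    Finset.sum_congr rfl fun i _ => by rcases hs1 i with h | h <;> rw [h] <;> simp [he.neg_one_pow]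
  have heven : ∀ e : ℕ, Even e → A e = A 0 := fun e he => funext fun k =>
    Finset.sum_congr rfl fun i _ => by rcases hs1 i with h | h <;> rw [h] <;> simp [he.neg_one_pow]
  have hpar : ∀ k, (2 : ℤ) ∣ A 1 k - A 0 k := fun k => by
    simp only [A, ← Finset.sum_sub_distrib]
    exact Finset.dvd_sum fun i _ => by rcases hs1 i with h | h <;> rw [h] <;> norm_num
  have hc : ∀ e : ℕ, (χ : G → ℂ) (g ^ e) = (A e 0 : ℂ) + A e 1 * rho ^ e + A e 2 * rho ^ (2 * e)
      + A e 3 * rho ^ (3 * e) + A e 4 * rho ^ (4 * e) := by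
    intro e
    rw [hsum, Fin.sum_univ_five]
    simp
  have v1 := hc 1
  have v2 := hc 2
  have v5 := hc 5
  have v6 := hc 6
  have v7 := hc 7
  have v8 := hc 8
  have v9 := hc 9
  rw [hodd 5 (by decide)] at v5; rw [hodd 7 (by decide)] at v7; rw [hodd 9 (by decide)] at v9
  rw [heven 2 (by decide)] at v2; rw [heven 6 (by decide)] at v6; rw [heven 8 (by decide)] at v8
  simp only [rho_mod (2 * _), rho_mod (3 * _), rho_mod (4 * _), rho_mod 5, rho_mod 6, rho_mod 7, rho_mod 8,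
    rho_mod 9, rho_mod 10, rho_mod 12, rho_mod 14, rho_mod 15, rho_mod 16, rho_mod 18, rho_mod 20, rho_mod 21,
    rho_mod 24, rho_mod 27, rho_mod 28, rho_mod 32, rho_mod 36, Nat.reduceMul, Nat.reduceMod, pow_zero, pow_one, mul_one] at v1 v2 v5 v6 v7 v8 v9
  have hne : rho - rho ^ 4 ≠ 0 := fun h => by
    have := rho_prim.pow_inj (i := 1) (j := 4) (by norm_num) (by norm_num) (by rw [pow_one]; exact sub_eq_zero.1 h)
    omega
  have hg9 : g ^ 9 = g⁻¹ := eq_inv_of_mul_eq_one_left (by rw [← pow_succ, hg])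
  have hg8 : g ^ 8 = (g ^ 2)⁻¹ := eq_inv_of_mul_eq_one_left (by rw [← pow_add, hg])
  have r1 : (χ : G → ℂ) (g ^ 9) = (χ : G → ℂ) g := by
    rw [hg9]; exact (classFunction_apply_of_isConj (isClassFunction_irr χ) hreal).symm
  have r2 : (χ : G → ℂ) (g ^ 8) = (χ : G → ℂ) (g ^ 2) := by
    obtain ⟨a, ha⟩ := isConj_iff.1 hreal
    rw [hg8, ← inv_pow, ← ha, conj_pow]
    exact (classFunction_apply_of_isConj (isClassFunction_irr χ) (isConj_iff.2 ⟨a, rfl⟩)).symm
  rw [v9, v1] at r1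
  rw [v8, v2] at r2
  have hρ5 := rho_prim.pow_eq_one
  have q1 : (((A 1 1 - A 1 4 : ℤ)) : ℂ) + ((A 1 2 - A 1 3 : ℤ) : ℂ) * beta = 0 := by
    refine (mul_left_inj' hne).1 ?_
    rw [zero_mul, beta]; push_cast
    linear_combination -r1 - ((A 1 2 : ℂ) - A 1 3) * rho ^ 3 * hρ5
  have q2 : (((A 0 2 - A 0 3 : ℤ)) : ℂ) + ((-(A 0 1 - A 0 4) : ℤ) : ℂ) * beta = 0 := by
    refine (mul_left_inj' hne).1 ?_
    rw [zero_mul, beta]; push_cast
    linear_combination r2 + ((A 0 1 : ℂ) - A 0 4) * rho ^ 3 * hρ5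
  obtain ⟨e14, e23⟩ := int_lin q1
  obtain ⟨f23, f14⟩ := int_lin q2
  have a14 : A 1 4 = A 1 1 := by omega
  have a23 : A 1 3 = A 1 2 := by omega
  have b14 : A 0 4 = A 0 1 := by omega
  have b23 : A 0 3 = A 0 2 := by omega
  rw [a14, a23] at v1 v5 v7
  rw [b14, b23] at v2 v6
  refine ⟨A 1 0, A 1 1, A 1 2, A 0 0, A 0 1, A 0 2, ?_, ?_, ?_, ?_, ?_, hpar 0, hpar 1⟩
  · rw [v5]; push_cast; ring
  · rw [v1, beta, beta']; ring
  · rw [v7, beta, beta']; ring
  · rw [v6, beta, beta']; ring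
  · rw [v2, beta, beta']; ring

/-- An element whose sixth power is trivial, conjugate to its inverse. -/
theorem values_six (χ : Cfsg.IrrCharacter G) {g : G} (hg : g ^ 6 = 1) (hreal : IsConj g g⁻¹) :
    ∃ U0 U1 : ℤ, (χ : G → ℂ) (g ^ 3) = (U0 + 2 * U1 : ℤ) ∧ (χ : G → ℂ) g = (U0 - U1 : ℤ) := by
  classical
  obtain ⟨ι, _, z, hz, hv⟩ := exists_powers χ g (by norm_num) hg
  set om : ℂ := Complex.exp (2 * Real.pi * Complex.I / (3 : ℕ))
  have hom : IsPrimitiveRoot om 3 := Complex.isPrimitiveRoot_exp 3 (by norm_num)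
  have hmod : ∀ k, om ^ k = om ^ (k % 3) := fun k => pow_eq_pow_mod k hom.pow_eq_one
  have h4 : ∀ i, ∃ j : Fin 3, om ^ (j : ℕ) = z i ^ 4 := fun i => by
    obtain ⟨k, hk, he⟩ := hom.eq_pow_of_pow_eq_one (ξ := z i ^ 4)
      (by rw [← pow_mul, show 4 * 3 = 6 * 2 from rfl, pow_mul, hz, one_pow])
    exact ⟨⟨k, hk⟩, he⟩
  choose j hj using h4
  have h3 : ∀ i, ∃ s : ℤ, (s = 1 ∨ s = -1) ∧ (s : ℂ) = z i ^ 3 := fun i => by
    rcases sq_eq_one_iff.1 (show (z i ^ 3) ^ 2 = 1 by rw [← pow_mul]; exact hz i) with h | h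
    · exact ⟨1, Or.inl rfl, by rw [h]; simp⟩
    · exact ⟨-1, Or.inr rfl, by rw [h]; simp⟩
  choose s hs1 hs using h3
  let A : ℕ → Fin 3 → ℤ := fun e k => ∑ i ∈ Finset.univ.filter (fun i => j i = k), s i ^ e
  have hsum : ∀ e : ℕ, (χ : G → ℂ) (g ^ e) = ∑ k : Fin 3, (A e k : ℂ) * om ^ ((k : ℕ) * e) := by
    intro e
    rw [hv e, ← Finset.sum_fiberwise Finset.univ j]
    refine Finset.sum_congr rfl fun k _ => ?_
    rw [Int.cast_sum, Finset.sum_mul]
    refine Finset.sum_congr rfl fun i hi => ?_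
    rw [← (Finset.mem_filter.1 hi).2, Int.cast_pow, hs, pow_mul, hj, ← mul_pow, ← pow_add,
      show 3 + 4 = 6 + 1 from rfl, pow_add, hz, one_mul, pow_one]
  have hodd : ∀ e : ℕ, Odd e → A e = A 1 := fun e he => funext fun k =>
    Finset.sum_congr rfl fun i _ => by rcases hs1 i with h | h <;> rw [h] <;> simp [he.neg_one_pow]
  have v1 := hsum 1
  have v3 := hsum 3
  have v5 := hsum 5
  rw [hodd 3 (by decide)] at v3
  rw [hodd 5 (by decide)] at v5
  simp only [Fin.sum_univ_three, Fin.val_zero, Fin.val_one, Fin.val_two, zero_mul, one_mul, hmod 3, hmod 5, hmod 6, hmod 10,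
    hmod (2 * _), Nat.reduceMul, Nat.reduceMod, pow_zero, pow_one, mul_one] at v1 v3 v5
  have hne : om - om ^ 2 ≠ 0 := fun h => by
    have := hom.pow_inj (i := 1) (j := 2) (by norm_num) (by norm_num) (by rw [pow_one]; exact sub_eq_zero.1 h)
    omega
  have hg5 : g ^ 5 = g⁻¹ := eq_inv_of_mul_eq_one_left (by rw [← pow_succ, hg])
  have r1 : (χ : G → ℂ) (g ^ 5) = (χ : G → ℂ) g := by
    rw [hg5]; exact (classFunction_apply_of_isConj (isClassFunction_irr χ) hreal).symm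
  rw [v5, v1] at r1
  have e12 : ((A 1 1 : ℂ) - A 1 2) * (om - om ^ 2) = 0 := by linear_combination -r1
  have e12' : A 1 1 = A 1 2 := by exact_mod_cast sub_eq_zero.1 ((mul_eq_zero.1 e12).resolve_right hne)
  have hgeo := hom.geom_sum_eq_zero (by norm_num)
  simp only [Finset.sum_range_succ, Finset.sum_range_zero, zero_add, pow_zero, pow_one] at hgeo
  refine ⟨A 1 0, A 1 1, ?_, ?_⟩
  · rw [v3, e12']; push_cast; ring
  · rw [v1, e12']; push_cast; linear_combination (A 1 2 : ℂ) * hgeo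

/-- If a character has no fixed vectors on a subgroup, it has none on a larger one. -/
theorem sum_eq_zero_of_le (χ : Cfsg.IrrCharacter G) {H K : Subgroup G} [Fintype H] [Fintype K] (hle : H ≤ K)
    (h : ∑ u : H, (χ : G → ℂ) u = 0) : ∑ u : K, (χ : G → ℂ) u = 0 := by
  obtain ⟨n, ρ, -, hχ⟩ := exists_rep χ
  have key : ∀ (L : Subgroup G) [Fintype L], ∑ u : L, (χ : G → ℂ) u =
      (Fintype.card L : ℂ) * Module.finrank ℂ (Representation.invariants (ρ.comp L.subtype)) := by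
    intro L _
    haveI : Invertible (Fintype.card L : ℂ) :=
      invertibleOfNonzero (Nat.cast_ne_zero.2 Fintype.card_ne_zero)
    set σ : Representation ℂ L (Fin n → ℂ) := ρ.comp L.subtype with hσ
    rw [← (Representation.isProj_averageMap σ).trace]
    simp only [Representation.averageMap, GroupAlgebra.average, map_smul, map_sum, Representation.asAlgebraHom_of,
      smul_eq_mul]
    rw [← mul_assoc, mul_invOf_self, one_mul, ← hχ]
    rfl
  rw [key, mul_eq_zero, or_iff_right (Nat.cast_ne_zero.2 Fintype.card_ne_zero), Nat.cast_eq_zero,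
    Submodule.finrank_eq_zero] at h ⊢
  rw [eq_bot_iff] at h ⊢
  intro v hv
  exact h fun u => hv ⟨u, hle u.2⟩

end Cfsg.Agent.Lib.J1Order.Eigen
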