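/-
Diophantine conditions on the exceptional character degrees of a group with an involution
centraliser of the form `2 × A₅`.
-/
import Mathlib

set_option autoImplicit false

namespace Cfsg.Agent.Lib.J1Order.Arith

/-- The test for the first configuration. -/
def candA (δ α : ℤ) : Bool :=
  let den := (1 + δ) * (α * (1 + δ - α) - 25 * δ)
  let num := 86400 * δ * α * (1 + δ - α)
  decide (den ≠ 0) && decide (num % den = 0) && decide (0 < num / den) && decide (num / den % 240 = 120) &&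
    decide (9 * (1 + δ) * δ * (num / den) % (num / den * (1 + δ) - 144000 * δ) = 0)

theorem candA_scan : ((List.range 400).all fun i => (List.range 100).all fun j =>
    !candA (8 * (i : ℤ) - 1599) (8 * (j : ℤ) - 395) ||
      decide ((8 * (i : ℤ) - 1599, 8 * (j : ℤ) - 395) ∈
        ([(-31, -155), (-31, 125), (-15, -35), (-15, 21), (209, 77), (209, 133)] : List (ℤ × ℤ)))) = true := by
  decide +kernel

theorem four_le_abs_sub {x : ℤ} (h : x % 8 = 5) : 4 ≤ |x - 25| := by
  rw [le_abs]; omega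

/-- The degrees of the first configuration. -/
theorem survivorsA {n δ α β P : ℤ} (hn : 0 < n) (h120 : n % 240 = 120) (hα : α % 8 = 5) (hβ : β % 8 = 5)
    (hδ : δ % 8 = 1) (hs : α + β = 1 + δ) (habs : |α| ≤ |β|) (hbound : α ^ 2 + β ^ 2 + δ ^ 2 ≤ n)
    (heq : n * (1 + δ) * (α * β - 25 * δ) = 86400 * δ * α * β)
    (heq2 : P * (n * (1 + δ) - 144000 * δ) = 9 * (1 + δ) * δ * n) :
    (δ = -31 ∧ α = 125 ∧ β = -155 ∧ n = 93000) ∨ (δ = -15 ∧ α = 21 ∧ β = -35 ∧ n = 189000) ∨
      (δ = 209 ∧ α = 77 ∧ β = 133 ∧ n = 175560) := by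
  set q := α * β - 25 * δ with hq
  have key : q * (n * (1 + δ) - 86400 * δ) = 2160000 * (δ * δ) := by
    rw [hq] at *; linear_combination heq
  have key' : |q| * |n * (1 + δ) - 86400 * δ| = 2160000 * (δ * δ) := by
    rw [← abs_mul, key, abs_of_nonneg]; nlinarith [mul_self_nonneg δ]
  have hlow : |n * (1 + δ)| - |86400 * δ| ≤ |n * (1 + δ) - 86400 * δ| := abs_sub_abs_le_abs_sub _ _
  rw [abs_mul, abs_mul, abs_of_pos hn, abs_of_pos (show (0 : ℤ) < 86400 by norm_num)] at hlow
  by_cases hbig : 1600 ≤ |δ|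
  · exfalso
    have hn2 : |δ| * |δ| ≤ n := by rw [abs_mul_abs_self]; nlinarith [mul_self_nonneg α, mul_self_nonneg β]
    have h1 : 1599 ≤ |1 + δ| := by
      rcases le_abs.1 hbig with h | h <;> rw [le_abs] <;> omega
    have h2 : 1545 * (|δ| * |δ|) ≤ |n * (1 + δ) - 86400 * δ| := by nlinarith [abs_nonneg δ]
    have h3 : |q| ≤ 1398 := by
      by_contra h
      have h' : 1399 ≤ |q| := by omega
      have : 1399 * (1545 * (|δ| * |δ|)) ≤ 2160000 * (δ * δ) := by
        rw [← key']; exact mul_le_mul h' h2 (by positivity) (by positivity)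
      rw [abs_mul_abs_self] at this
      nlinarith [abs_mul_abs_self δ]
    have h4 : |α - 25| * |β - 25| ≤ 1998 := by
      rw [← abs_mul, show (α - 25) * (β - 25) = q + 600 by rw [hq]; linear_combination (-25) * hs]
      exact (abs_add_le q 600).trans (by norm_num; omega)
    have hA := four_le_abs_sub hα
    have hB := four_le_abs_sub hβ
    have h5 : |α - 25| ≤ 499 := by nlinarith
    have h6 : |β - 25| ≤ 499 := by nlinarith
    rw [abs_le] at h5 h6
    rcases le_abs.1 hbig with h | h <;> omega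
  have hbig' : |δ| < 1600 := not_le.1 hbig
  by_cases hαbig : 400 < |α|
  · exfalso
    have hn2 : 320000 ≤ n := by
      have := mul_le_mul habs habs (abs_nonneg α) (abs_nonneg β)
      rw [abs_mul_abs_self, abs_mul_abs_self] at this
      nlinarith [mul_self_nonneg δ, abs_mul_abs_self α]
    have h1 : 6 * |δ| ≤ 7 * |1 + δ| := by
      rcases le_or_gt 0 δ with h | h
      · rw [abs_of_nonneg h, abs_of_nonneg (by omega)]; omega
      · rw [abs_of_neg h, abs_of_neg (by omega)]; omega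
    have h2 : 187885 * |δ| ≤ |n * (1 + δ) - 86400 * δ| := by nlinarith [abs_nonneg (1 + δ), abs_nonneg δ]
    have h3 : 120000 ≤ |q| := by
      have h := abs_sub_abs_le_abs_sub (α * β) (25 * δ)
      rw [abs_mul, abs_mul 25 δ, abs_of_pos (show (0 : ℤ) < 25 by norm_num), ← hq] at h
      nlinarith [mul_le_mul hαbig.le (hαbig.le.trans habs) (by norm_num : (0:ℤ) ≤ 400) (abs_nonneg α)]
    have h4 : 120000 * (187885 * |δ|) ≤ 2160000 * (|δ| * |δ|) := by
      rw [abs_mul_abs_self, ← key']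
      exact mul_le_mul h3 h2 (by positivity) (by positivity)
    have h5 : 0 < |δ| := abs_pos.2 (by omega)
    nlinarith
  have hα0 : α ≠ 0 := by omega
  have hβ0 : β ≠ 0 := by omega
  have hδ0 : δ ≠ 0 := by omega
  have hq0 : q ≠ 0 := fun h => by rw [h, zero_mul] at key; nlinarith [mul_self_pos.2 hδ0]
  have hden : (1 + δ) * (α * (1 + δ - α) - 25 * δ) ≠ 0 := by
    rw [show 1 + δ - α = β by omega]
    exact mul_ne_zero (by omega) hq0
  have hnum : 86400 * δ * α * (1 + δ - α) = n * ((1 + δ) * (α * (1 + δ - α) - 25 * δ)) := by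
    rw [show 1 + δ - α = β by omega, ← heq, hq]; ring
  have hcand : candA δ α = true := by
    simp only [candA, hnum, Bool.and_eq_true, decide_eq_true_eq, Int.mul_emod_left, Int.mul_ediv_cancel _ hden]
    exact ⟨⟨⟨⟨hden, trivial⟩, hn⟩, h120⟩, by rw [← heq2, Int.mul_emod_left]⟩
  rw [abs_lt] at hbig'
  rw [not_lt, abs_le] at hαbig
  obtain ⟨i, hi, hiδ⟩ : ∃ i : ℕ, i < 400 ∧ δ = 8 * (i : ℤ) - 1599 :=
    ⟨((δ + 1599) / 8).toNat, by omega, by omega⟩
  obtain ⟨j, hj, hjα⟩ : ∃ j : ℕ, j < 100 ∧ α = 8 * (j : ℤ) - 395 :=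
    ⟨((α + 395) / 8).toNat, by omega, by omega⟩
  have h := candA_scan
  rw [List.all_eq_true] at h
  have h2 := List.all_eq_true.1 (h i (List.mem_range.2 hi)) j (List.mem_range.2 hj)
  rw [← hiδ, ← hjα, hcand] at h2
  simp only [Bool.not_true, Bool.false_or, decide_eq_true_eq, List.mem_cons, List.not_mem_nil, or_false,
    Prod.mk.injEq] at h2
  rcases h2 with ⟨e1, e2⟩ | ⟨e1, e2⟩ | ⟨e1, e2⟩ | ⟨e1, e2⟩ | ⟨e1, e2⟩ | ⟨e1, e2⟩ <;>
    subst e1 e2 <;>
    (obtain rfl := eq_sub_of_add_eq' hs) <;>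
    (try norm_num [hq] at habs) <;> (try norm_num [hq] at heq) <;> (try norm_num) <;> omega

/-- The test for the second configuration. -/
def candB (η : ℤ) : Bool :=
  let num := 43200 * η * (2 * η - 1)
  let den := (η + 2) * (η + 2)
  decide (den ≠ 0) && decide (num % den = 0) && decide (num / den % 240 = 120)

theorem candB_scan : ((List.range 51).all fun i => !candB (8 * (i : ℤ) - 198) ||
    decide (8 * (i : ℤ) - 198 ∈ ([-62, -22, -14, -6, 2, 10, 18, 58] : List ℤ))) = true := by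
  decide +kernel

/-- The second configuration gives these orders only. -/
theorem survivorsB {n η : ℤ} (h120 : n % 240 = 120) (hη : η % 8 = 2)
    (hbound : (1 - 2 * η) ^ 2 + 2 * η ^ 2 ≤ n)
    (heq : n * ((η + 2) * (η + 2)) = 43200 * η * (2 * η - 1)) :
    (η, n) ∈ ([(-62, 93000), (-22, 106920), (-14, 121800), (-6, 210600), (2, 16200), (10, 57000), (18, 68040),
      (58, 80040)] : List (ℤ × ℤ)) := by
  by_cases hbig : 200 < |η|
  · exfalso
    have hne : 6 * η ^ 2 - 4 * η + 1 ≤ n := by linarith [show (1 - 2 * η) ^ 2 + 2 * η ^ 2 = 6 * η ^ 2 - 4 * η + 1 by ring]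
    rcases lt_abs.1 hbig with h | h
    · have h1 : 5 * η ^ 2 ≤ n := by nlinarith
      have h2 : η ^ 2 ≤ (η + 2) * (η + 2) := by nlinarith
      have h3 : 5 * η ^ 2 * η ^ 2 ≤ n * ((η + 2) * (η + 2)) := mul_le_mul h1 h2 (by positivity) (by nlinarith)
      have h4 : 40000 * η ^ 2 ≤ η ^ 2 * η ^ 2 := mul_le_mul_of_nonneg_right (by nlinarith) (by positivity)
      nlinarith
    · have h1 : 6 * η ^ 2 ≤ n := by nlinarith
      have h2 : 9 * η ^ 2 ≤ 10 * ((η + 2) * (η + 2)) := by nlinarith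
      have h3 : 6 * η ^ 2 * (9 * η ^ 2) ≤ n * (10 * ((η + 2) * (η + 2))) := mul_le_mul h1 h2 (by positivity) (by nlinarith)
      have h4 : 40000 * η ^ 2 ≤ η ^ 2 * η ^ 2 := mul_le_mul_of_nonneg_right (by nlinarith) (by positivity)
      nlinarith
  rw [not_lt, abs_le] at hbig
  have hd : (η + 2) * (η + 2) ≠ 0 := by
    intro h
    have : η + 2 = 0 := mul_self_eq_zero.1 h
    omega
  have hcand : candB η = true := by
    simp only [candB, ← heq, Bool.and_eq_true, decide_eq_true_eq, Int.mul_emod_left, Int.mul_ediv_cancel _ hd]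
    exact ⟨⟨hd, trivial⟩, h120⟩
  obtain ⟨i, hi, hiη⟩ : ∃ i : ℕ, i < 51 ∧ η = 8 * (i : ℤ) - 198 :=
    ⟨((η + 198) / 8).toNat, by omega, by omega⟩
  have h := List.all_eq_true.1 candB_scan i (List.mem_range.2 hi)
  rw [← hiη, hcand] at h
  simp only [Bool.not_true, Bool.false_or, decide_eq_true_eq, List.mem_cons, List.not_mem_nil, or_false] at h
  rcases h with e | e | e | e | e | e | e | e <;> rw [e] at heq ⊢ <;>
    simp only [List.mem_cons, List.not_mem_nil, or_false, Prod.mk.injEq] <;> norm_num at heq ⊢ <;> omega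

/-- A number strictly between two consecutive squares is no square. -/
theorem sq_ne {x D k : ℤ} (hk : 0 ≤ k) (h1 : k * k < D) (h2 : D < (k + 1) * (k + 1)) : x * x ≠ D := by
  intro h
  rcases le_or_gt |x| k with hx | hx
  · nlinarith [abs_mul_abs_self x, abs_nonneg x]
  · nlinarith [abs_mul_abs_self x, abs_nonneg x]

end Cfsg.Agent.Lib.J1Order.Arith
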