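/-
The coefficient rows of the exceptional characters of a group with an involution centraliser of
the form `2 × A₅`, and the resulting order.
-/
import Cfsg.Agent.Lib.J1Order.Arith

set_option autoImplicit false

namespace Cfsg.Agent.Lib.J1Order.Rows

open Finset

variable {ι : Type*} [Fintype ι]

/-- The numerical data carried by the irreducible characters. -/
structure Table (n : ℕ) (ι : Type*) [Fintype ι] where
  o : ι
  d : ι → ℤ
  a : ι → ℤ
  b : ι → ℤ
  b' : ι → ℤ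
  c : ι → ℤ
  σ : ι ≃ ι
  d_pos : ∀ i, 0 < d i
  d_o : d o = 1
  a_o : a o = 1
  b_o : b o = 0
  b'_o : b' o = 0
  c_o : c o = 0
  σ_d : ∀ i, d (σ i) = d i
  σ_a : ∀ i, a (σ i) = a i
  σ_b : ∀ i, b (σ i) = b' i
  σ_b' : ∀ i, b' (σ i) = b i
  σ_c : ∀ i, c (σ i) = c i
  aa : ∑ i, a i * a i = 8
  bb : ∑ i, b i * b i = 4
  b'b' : ∑ i, b' i * b' i = 4
  cc : ∑ i, c i * c i = 2
  ab : ∑ i, a i * b i = 4
  ab' : ∑ i, a i * b' i = 4
  bb' : ∑ i, b i * b' i = 2
  ac : ∑ i, a i * c i = 0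
  bc : ∑ i, b i * c i = 0
  b'c : ∑ i, b' i * c i = 0
  da : ∑ i, d i * a i = 0
  db : ∑ i, d i * b i = 0
  db' : ∑ i, d i * b' i = 0
  dc : ∑ i, d i * c i = 0
  sum_sq : ∑ i, d i * d i = n
  cong : ∀ i, (8 : ℤ) ∣ d i - (a i + 2 * b i + 2 * b' i + 4 * c i)
  eq_w : ∑ i, ((b i + b' i - a i : ℤ) : ℚ) * ((a i + 2 * b i + 2 * b' i + 4 * c i : ℤ) : ℚ) ^ 2 / (d i : ℚ) =
    -86400 / n
  eq_b : ∑ i, (b i : ℚ) * ((a i + 2 * b i + 2 * b' i + 4 * c i : ℤ) : ℚ) ^ 2 / (d i : ℚ) = 57600 / n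
  eq_c : ∑ i, (c i : ℚ) * ((a i + 2 * b i + 2 * b' i + 4 * c i : ℤ) : ℚ) ^ 2 / (d i : ℚ) = 0

variable {n : ℕ}

/-- The combination `b + b' - a`. -/
def Table.w (X : Table n ι) (i : ι) : ℤ := X.b i + X.b' i - X.a i

/-- The value at the involution. -/
def Table.T (X : Table n ι) (i : ι) : ℤ := X.a i + 2 * X.b i + 2 * X.b' i + 4 * X.c i

/-- The row of the exceptional character that survives the arithmetic for the order 189000. -/
def Table.Bad (X : Table n ι) : Prop :=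
  n = 189000 ∧ ∃ i, X.d i = 35 ∧ X.σ i = i ∧ X.a i = -1 ∧ X.b i = -1 ∧ X.b' i = -1 ∧ X.c i = 0

theorem small_of_sum_sq {m : ℤ} {f : ι → ℤ} (h : ∑ i, f i * f i = m) (S : Finset ι) :
    ∑ i ∈ S, f i * f i ≤ m :=
  h ▸ Finset.sum_le_univ_sum_of_nonneg fun i => mul_self_nonneg (f i)

theorem eq_zero_of_card {m : ℕ} {f : ι → ℤ} (h : ∑ i, f i * f i = (m : ℤ)) (S : Finset ι)
    (hS : ∀ i ∈ S, f i ≠ 0) (hc : m ≤ S.card) (i : ι) (hi : i ∉ S) : f i = 0 := by
  classical
  by_contra hfi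
  have h1 : ∀ j, f j ≠ 0 → 1 ≤ f j * f j := fun j hj => by
    have := mul_self_pos.2 hj
    omega
  have h2 := small_of_sum_sq h (insert i S)
  rw [Finset.sum_insert hi] at h2
  have h3 : (S.card : ℤ) ≤ ∑ j ∈ S, f j * f j := by
    have := Finset.card_nsmul_le_sum S (fun j => f j * f j) 1 fun j hj => h1 j (hS j hj)
    simpa using this
  have := h1 i hfi
  omega

theorem sum_three {R : Type*} [AddCommMonoid R] (f : ι → R) {o p q r : ι} (hop : o ≠ p) (hoq : o ≠ q) (hor : o ≠ r)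
    (hpq : p ≠ q) (hpr : p ≠ r) (hqr : q ≠ r) (h : ∀ i, i ≠ o → i ≠ p → i ≠ q → i ≠ r → f i = 0) :
    ∑ i, f i = f o + f p + f q + f r := by
  classical
  rw [← Finset.sum_subset (Finset.subset_univ ({o, p, q, r} : Finset ι)) fun i _ hi => by
    simp only [Finset.mem_insert, Finset.mem_singleton, not_or] at hi
    exact h i hi.1 hi.2.1 hi.2.2.1 hi.2.2.2]
  rw [Finset.sum_insert (by simp [hop, hoq, hor]), Finset.sum_insert (by simp [hpq, hpr]),
    Finset.sum_insert (by simp [hqr]), Finset.sum_singleton]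
  abel

theorem sum_four {R : Type*} [AddCommMonoid R] (f : ι → R) {p q x y : ι} (hpq : p ≠ q) (hpx : p ≠ x) (hpy : p ≠ y)
    (hqx : q ≠ x) (hqy : q ≠ y) (hxy : x ≠ y) (h : ∀ i, i ≠ p → i ≠ q → i ≠ x → i ≠ y → f i = 0) :
    ∑ i, f i = f p + f q + f x + f y :=
  sum_three f hpq hpx hpy hqx hqy hxy h

variable (X : Table n ι)

theorem w_o : X.w X.o = -1 := by simp [Table.w, X.a_o, X.b_o, X.b'_o]

theorem σ_w (i : ι) : X.w (X.σ i) = X.w i := by
  simp only [Table.w, X.σ_a, X.σ_b, X.σ_b']; ring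

theorem ww : ∑ i, X.w i * X.w i = 4 := by
  have : ∑ i, X.w i * X.w i = (∑ i, X.b i * X.b i) + (∑ i, X.b' i * X.b' i) + (∑ i, X.a i * X.a i)
      + 2 * (∑ i, X.b i * X.b' i) - 2 * (∑ i, X.a i * X.b i) - 2 * (∑ i, X.a i * X.b' i) := by
    simp only [Finset.mul_sum, ← Finset.sum_add_distrib, ← Finset.sum_sub_distrib]
    exact Finset.sum_congr rfl fun i _ => by simp only [Table.w]; ring
  rw [this, X.bb, X.b'b', X.aa, X.bb', X.ab, X.ab']; rfl

theorem wb : ∑ i, X.w i * X.b i = 2 := by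
  have : ∑ i, X.w i * X.b i = (∑ i, X.b i * X.b i) + (∑ i, X.b i * X.b' i) - (∑ i, X.a i * X.b i) := by
    simp only [← Finset.sum_add_distrib, ← Finset.sum_sub_distrib]
    exact Finset.sum_congr rfl fun i _ => by simp only [Table.w]; ring
  rw [this, X.bb, X.bb', X.ab]; rfl

theorem wb' : ∑ i, X.w i * X.b' i = 2 := by
  have : ∑ i, X.w i * X.b' i = (∑ i, X.b i * X.b' i) + (∑ i, X.b' i * X.b' i) - (∑ i, X.a i * X.b' i) := by
    simp only [← Finset.sum_add_distrib, ← Finset.sum_sub_distrib]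
    exact Finset.sum_congr rfl fun i _ => by simp only [Table.w]; ring
  rw [this, X.bb', X.b'b', X.ab']; rfl

theorem wc : ∑ i, X.w i * X.c i = 0 := by
  have : ∑ i, X.w i * X.c i = (∑ i, X.b i * X.c i) + (∑ i, X.b' i * X.c i) - (∑ i, X.a i * X.c i) := by
    simp only [← Finset.sum_add_distrib, ← Finset.sum_sub_distrib]
    exact Finset.sum_congr rfl fun i _ => by simp only [Table.w]; ring
  rw [this, X.bc, X.b'c, X.ac]; rfl

theorem dw : ∑ i, X.d i * X.w i = 0 := by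
  have : ∑ i, X.d i * X.w i = (∑ i, X.d i * X.b i) + (∑ i, X.d i * X.b' i) - (∑ i, X.d i * X.a i) := by
    simp only [← Finset.sum_add_distrib, ← Finset.sum_sub_distrib]
    exact Finset.sum_congr rfl fun i _ => by simp only [Table.w]; ring
  rw [this, X.db, X.db', X.da]; rfl

theorem b_small (i : ι) : X.b i = 0 ∨ X.b i = 1 ∨ X.b i = -1 := by
  classical
  have h4 := small_of_sum_sq X.bb {i}
  rw [Finset.sum_singleton] at h4
  have hb : -2 ≤ X.b i ∧ X.b i ≤ 2 := ⟨by nlinarith, by nlinarith⟩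
  by_contra hc
  have h2 : X.b i * X.b i = 4 := by
    rcases (show X.b i = 2 ∨ X.b i = -2 by omega) with h | h <;> rw [h] <;> rfl
  have hz : ∀ j, j ≠ i → X.b j = 0 := fun j hj => by
    have := small_of_sum_sq X.bb {j, i}
    rw [Finset.sum_pair hj, h2] at this
    exact mul_self_eq_zero.1 (le_antisymm (by linarith) (mul_self_nonneg _))
  have hsum := X.bb'
  rw [Finset.sum_eq_single i (fun j _ hj => by rw [hz j hj, zero_mul]) (fun h => absurd (Finset.mem_univ i) h),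
    ← X.σ_b i] at hsum
  by_cases hσ : X.σ i = i
  · rw [hσ, h2] at hsum; omega
  · rw [hz _ hσ, mul_zero] at hsum; omega

theorem b'_small (i : ι) : X.b' i = 0 ∨ X.b' i = 1 ∨ X.b' i = -1 := X.σ_b i ▸ b_small X (X.σ i)

theorem c_small (i : ι) : X.c i = 0 ∨ X.c i = 1 ∨ X.c i = -1 := by
  have h2 := small_of_sum_sq X.cc {i}
  rw [Finset.sum_singleton] at h2
  have : -1 ≤ X.c i ∧ X.c i ≤ 1 := ⟨by nlinarith, by nlinarith⟩
  omega

/-- The support of `w`, with the rows on which `b` agrees with it. -/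
theorem exists_pqr : ∃ p q r : ι, p ≠ X.o ∧ q ≠ X.o ∧ r ≠ X.o ∧ p ≠ q ∧ p ≠ r ∧ q ≠ r ∧
    (X.w p = 1 ∨ X.w p = -1) ∧ (X.w q = 1 ∨ X.w q = -1) ∧ (X.w r = 1 ∨ X.w r = -1) ∧
    (∀ i, i ≠ X.o → i ≠ p → i ≠ q → i ≠ r → X.w i = 0) ∧
    X.b p = X.w p ∧ X.b q = X.w q ∧ X.b r = 0 ∧
    ((X.b' p = X.w p ∧ X.b' q = X.w q ∧ X.b' r = 0) ∨ (X.b' p = X.w p ∧ X.b' q = 0 ∧ X.b' r = X.w r)) := by
  classical
  have hw := ww X
  rw [← Finset.add_sum_erase _ _ (Finset.mem_univ X.o), w_o] at hw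
  have hsmall : ∀ i, i ≠ X.o → X.w i = 0 ∨ X.w i = 1 ∨ X.w i = -1 := by
    intro i hi
    have := Finset.single_le_sum (f := fun i => X.w i * X.w i) (fun i _ => mul_self_nonneg (X.w i))
      (Finset.mem_erase.2 ⟨hi, Finset.mem_univ i⟩)
    have : -1 ≤ X.w i ∧ X.w i ≤ 1 := ⟨by nlinarith, by nlinarith⟩
    omega
  have hcard : ((Finset.univ.erase X.o).filter fun i => X.w i ≠ 0).card = 3 := by
    have : ∑ i ∈ Finset.univ.erase X.o, X.w i * X.w i = ((Finset.univ.erase X.o).filter fun i => X.w i ≠ 0).card := by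
      rw [← Finset.sum_filter_of_ne (p := fun i => X.w i ≠ 0) fun i _ h h0 => h (by rw [h0, mul_zero]),
        Finset.card_eq_sum_ones, Nat.cast_sum]
      refine Finset.sum_congr rfl fun i hi => ?_
      obtain ⟨hi1, hi2⟩ := Finset.mem_filter.1 hi
      rcases hsmall i (Finset.ne_of_mem_erase hi1) with h | h | h
      · exact absurd h hi2
      · simp [h]
      · simp [h]
    omega
  obtain ⟨p, q, r, hpq, hpr, hqr, hW⟩ := Finset.card_eq_three.1 hcard
  have mem : ∀ i, i ∈ ({p, q, r} : Finset ι) ↔ i ≠ X.o ∧ X.w i ≠ 0 := fun i => by rw [← hW]; simp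
  obtain ⟨hpo, hp⟩ := (mem p).1 (by simp)
  obtain ⟨hqo, hq⟩ := (mem q).1 (by simp)
  obtain ⟨hro, hr⟩ := (mem r).1 (by simp)
  have hz : ∀ i, i ≠ X.o → i ≠ p → i ≠ q → i ≠ r → X.w i = 0 := fun i h1 h2 h3 h4 => by
    by_contra h
    have := (mem i).2 ⟨h1, h⟩
    simp [h2, h3, h4] at this
  have hsum : ∀ f : ι → ℤ, f X.o = 0 → (∑ i, X.w i * f i = 2) → X.w p * f p + X.w q * f q + X.w r * f r = 2 := by
    intro f hf h
    rw [sum_three _ hpo.symm hqo.symm hro.symm hpq hpr hqr (fun i a b c d => by rw [hz i a b c d, zero_mul]),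
      hf, mul_zero, zero_add] at h
    exact h
  have hp' := (hsmall p hpo).resolve_left hp
  have hq' := (hsmall q hqo).resolve_left hq
  have hr' := (hsmall r hro).resolve_left hr
  -- the zero of a vector on the three rows
  have key : ∀ f : ι → ℤ, (∀ i, f i = 0 ∨ f i = 1 ∨ f i = -1) → f X.o = 0 → (∑ i, X.w i * f i = 2) →
      (f p = 0 ∧ f q = X.w q ∧ f r = X.w r) ∨ (f p = X.w p ∧ f q = 0 ∧ f r = X.w r) ∨
        (f p = X.w p ∧ f q = X.w q ∧ f r = 0) := by
    intro f hf hfo h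
    have h' := hsum f hfo h
    rcases hf p with x | x | x <;> rcases hf q with y | y | y <;> rcases hf r with z | z | z <;>
      rcases hp' with u | u <;> rcases hq' with v | v <;> rcases hr' with s | s <;>
      simp only [x, y, z, u, v, s] at h' <;> omega
  rcases key X.b (b_small X) X.b_o (wb X) with ⟨b1, b2, b3⟩ | ⟨b1, b2, b3⟩ | ⟨b1, b2, b3⟩ <;>
    rcases key X.b' (b'_small X) X.b'_o (wb' X) with ⟨c1, c2, c3⟩ | ⟨c1, c2, c3⟩ | ⟨c1, c2, c3⟩
  · exact ⟨q, r, p, hqo, hro, hpo, hqr, hpq.symm, hpr.symm, hq', hr', hp', fun i a b c d => hz i a d b c,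
      b2, b3, b1, Or.inl ⟨c2, c3, c1⟩⟩
  · exact ⟨r, q, p, hro, hqo, hpo, hqr.symm, hpr.symm, hpq.symm, hr', hq', hp', fun i a b c d => hz i a d c b,
      b3, b2, b1, Or.inr ⟨c3, c2, c1⟩⟩
  · exact ⟨q, r, p, hqo, hro, hpo, hqr, hpq.symm, hpr.symm, hq', hr', hp', fun i a b c d => hz i a d b c,
      b2, b3, b1, Or.inr ⟨c2, c3, c1⟩⟩
  · exact ⟨r, p, q, hro, hpo, hqo, hpr.symm, hqr.symm, hpq, hr', hp', hq', fun i a b c d => hz i a c d b,
      b3, b1, b2, Or.inr ⟨c3, c1, c2⟩⟩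
  · exact ⟨p, r, q, hpo, hro, hqo, hpr, hpq, hqr.symm, hp', hr', hq', fun i a b c d => hz i a b d c,
      b1, b3, b2, Or.inl ⟨c1, c3, c2⟩⟩
  · exact ⟨p, r, q, hpo, hro, hqo, hpr, hpq, hqr.symm, hp', hr', hq', fun i a b c d => hz i a b d c,
      b1, b3, b2, Or.inr ⟨c1, c3, c2⟩⟩
  · exact ⟨q, p, r, hqo, hpo, hro, hpq.symm, hqr, hpr, hq', hp', hr', fun i a b c d => hz i a c b d,
      b2, b1, b3, Or.inr ⟨c2, c1, c3⟩⟩
  · exact ⟨p, q, r, hpo, hqo, hro, hpq, hpr, hqr, hp', hq', hr', hz, b1, b2, b3, Or.inr ⟨c1, c2, c3⟩⟩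
  · exact ⟨p, q, r, hpo, hqo, hro, hpq, hpr, hqr, hp', hq', hr', hz, b1, b2, b3, Or.inl ⟨c1, c2, c3⟩⟩

/-- The remaining support of `b`. -/
theorem exists_outside {p q r : ι} (hpq : p ≠ q) (hpr : p ≠ r) (hqr : q ≠ r)
    (hwp : X.w p = 1 ∨ X.w p = -1) (hwq : X.w q = 1 ∨ X.w q = -1)
    (hz : ∀ i, i ≠ X.o → i ≠ p → i ≠ q → i ≠ r → X.w i = 0)
    (hbp : X.b p = X.w p) (hbq : X.b q = X.w q) (hbr : X.b r = 0) :
    ∃ x y : ι, x ≠ y ∧ x ≠ X.o ∧ y ≠ X.o ∧ x ≠ p ∧ x ≠ q ∧ x ≠ r ∧ y ≠ p ∧ y ≠ q ∧ y ≠ r ∧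
      X.w x = 0 ∧ X.w y = 0 ∧ (X.b x = 1 ∨ X.b x = -1) ∧ (X.b y = 1 ∨ X.b y = -1) ∧
      ∀ i, i ≠ p → i ≠ q → i ≠ x → i ≠ y → X.b i = 0 := by
  classical
  have h := X.bb
  rw [← Finset.sum_add_sum_compl ({p, q} : Finset ι), Finset.sum_pair hpq, hbp, hbq] at h
  have hc : (({p, q} : Finset ι)ᶜ.filter fun i => X.b i ≠ 0).card = 2 := by
    have : ∑ i ∈ ({p, q} : Finset ι)ᶜ, X.b i * X.b i = (({p, q} : Finset ι)ᶜ.filter fun i => X.b i ≠ 0).card := by
      rw [← Finset.sum_filter_of_ne (p := fun i => X.b i ≠ 0) fun i _ h h0 => h (by rw [h0, mul_zero]),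
        Finset.card_eq_sum_ones, Nat.cast_sum]
      refine Finset.sum_congr rfl fun i hi => ?_
      rcases b_small X i with hh | hh | hh
      · exact absurd hh (Finset.mem_filter.1 hi).2
      · simp [hh]
      · simp [hh]
    rcases hwp with u | u <;> rcases hwq with v | v <;> rw [u, v] at h <;> omega
  obtain ⟨x, y, hxy, hB⟩ := Finset.card_eq_two.1 hc
  have mem : ∀ i, i ∈ ({x, y} : Finset ι) ↔ (i ≠ p ∧ i ≠ q) ∧ X.b i ≠ 0 := fun i => by rw [← hB]; simp
  obtain ⟨⟨hxp, hxq⟩, hx⟩ := (mem x).1 (by simp)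
  obtain ⟨⟨hyp, hyq⟩, hy⟩ := (mem y).1 (by simp)
  have hxo : x ≠ X.o := fun h => hx (h ▸ X.b_o)
  have hyo : y ≠ X.o := fun h => hy (h ▸ X.b_o)
  have hxr : x ≠ r := fun h => hx (h ▸ hbr)
  have hyr : y ≠ r := fun h => hy (h ▸ hbr)
  refine ⟨x, y, hxy, hxo, hyo, hxp, hxq, hxr, hyp, hyq, hyr, hz x hxo hxp hxq hxr, hz y hyo hyp hyq hyr,
    (b_small X x).resolve_left hx, (b_small X y).resolve_left hy, fun i a b c d => ?_⟩
  by_contra hh
  have := (mem i).2 ⟨⟨a, b⟩, hh⟩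
  simp [c, d] at this

theorem cong' (i : ι) : (8 : ℤ) ∣ X.d i - X.T i := X.cong i

theorem mul_self_of {s : ℤ} (h : s = 1 ∨ s = -1) : (s : ℚ) * s = 1 := by rcases h with h | h <;> simp [h]

theorem inv_signed {s : ℤ} (h : s = 1 ∨ s = -1) (d : ℤ) : (s : ℚ) / d = 1 / ((s * d : ℤ) : ℚ) := by
  rcases h with h | h <;> simp [h, neg_div, div_neg]

theorem quad_no_root {A B C μ k : ℤ} (h : A * μ * μ + B * μ + C = 0)
    (hD : B * B - 4 * A * C < 0 ∨ (0 ≤ k ∧ k * k < B * B - 4 * A * C ∧ B * B - 4 * A * C < (k + 1) * (k + 1))) :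
    False := by
  have h2 : (2 * A * μ + B) * (2 * A * μ + B) = B * B - 4 * A * C := by linear_combination 4 * A * h
  rcases hD with hD | ⟨hk, h1, h3⟩
  · nlinarith [mul_self_nonneg (2 * A * μ + B)]
  · exact Arith.sq_ne hk h1 h3 h2

variable (h120 : n % 240 = 120)
include h120

/-- The first configuration. -/
theorem caseA {p q r : ι} (hpo : p ≠ X.o) (hqo : q ≠ X.o) (hro : r ≠ X.o) (hpq : p ≠ q) (hpr : p ≠ r)
    (hqr : q ≠ r) (hwp : X.w p = 1 ∨ X.w p = -1) (hwq : X.w q = 1 ∨ X.w q = -1) (hwr : X.w r = 1 ∨ X.w r = -1)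
    (hz : ∀ i, i ≠ X.o → i ≠ p → i ≠ q → i ≠ r → X.w i = 0)
    (hbp : X.b p = X.w p) (hbq : X.b q = X.w q) (hbr : X.b r = 0)
    (hcp : X.b' p = X.w p) (hcq : X.b' q = X.w q) (hcr : X.b' r = 0) :
    n = 175560 ∨ X.Bad := by
  classical
  obtain ⟨x, y, hxy, hxo, hyo, hxp, hxq, hxr, hyp, hyq, hyr, hwx, hwy, hbx, hby, hbz⟩ :=
    exists_outside X hpq hpr hqr hwp hwq hz hbp hbq hbr
  have S3 : ∀ {R : Type} [AddCommMonoid R] (f : ι → R), (∀ i, X.w i = 0 → f i = 0) →
      ∑ i, f i = f X.o + f p + f q + f r := fun f hf =>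
    sum_three f hpo.symm hqo.symm hro.symm hpq hpr hqr fun i a b c d => hf i (hz i a b c d)
  have S4 : ∀ {R : Type} [AddCommMonoid R] (f : ι → R), (∀ i, X.b i = 0 → f i = 0) →
      ∑ i, f i = f p + f q + f x + f y := fun f hf =>
    sum_four f hpq hxp.symm hyp.symm hxq.symm hyq.symm hxy fun i a b c d => hf i (hbz i a b c d)
  -- `b'` vanishes at `x` and at `y`
  have hb'xy : X.b' x = 0 ∧ X.b' y = 0 := by
    have h := X.bb'
    rw [S4 _ (fun i hi => by rw [hi, zero_mul]), hbp, hcp, hbq, hcq] at h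
    by_contra hne
    obtain ⟨z, z', hz', hzz, hzne, hbz', hb'z, hb'z', hsgn⟩ : ∃ z z' : ι, z ≠ z' ∧ (z = x ∧ z' = y ∨ z = y ∧ z' = x) ∧
        X.w z = 0 ∧ X.b z ≠ 0 ∧ X.b' z = -X.b z ∧ X.b' z' = X.b z' ∧ X.a z = 0 := by
      have hax : X.a x = X.b x + X.b' x := by simp only [Table.w] at hwx; omega
      have hay : X.a y = X.b y + X.b' y := by simp only [Table.w] at hwy; omega
      rcases hbx with u | u <;> rcases hby with v | v <;> rcases b'_small X x with s | s | s <;>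
        rcases b'_small X y with t | t | t <;> rcases hwp with w1 | w1 <;> rcases hwq with w2 | w2 <;>
        simp only [u, v, s, t, w1, w2] at h hax hay <;>
        first
          | (exfalso; omega)
          | (refine ⟨x, y, hxy, Or.inl ⟨rfl, rfl⟩, hwx, ?_, ?_, ?_, ?_⟩ <;> omega)
          | (refine ⟨y, x, hxy.symm, Or.inr ⟨rfl, rfl⟩, hwy, ?_, ?_, ?_, ?_⟩ <;> omega)
    have hσ : X.σ z = x ∨ X.σ z = y := by
      by_contra hcon
      push Not at hcon
      have h0 : X.b (X.σ z) ≠ 0 := by rw [X.σ_b, hb'z]; omega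
      have hw0 : X.w (X.σ z) = 0 := by rw [σ_w]; exact hzne
      refine h0 (hbz _ ?_ ?_ hcon.1 hcon.2)
      · intro e; rw [e] at hw0; omega
      · intro e; rw [e] at hw0; omega
    have hzfix : X.σ z = z := by
      by_contra hne'
      have he : X.σ z = z' := by
        rcases hzz with ⟨rfl, rfl⟩ | ⟨rfl, rfl⟩ <;> rcases hσ with e | e
        exacts [absurd e hne', e, e, absurd e hne']
      have h1 := X.σ_a z
      rw [he, hsgn] at h1
      have h2 : X.w z' = 0 := by rcases hzz with ⟨-, rfl⟩ | ⟨-, rfl⟩ <;> assumption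
      simp only [Table.w] at h2
      have h3 : X.b z' ≠ 0 := by rcases hzz with ⟨-, rfl⟩ | ⟨-, rfl⟩ <;> omega
      omega
    have := X.σ_b z
    rw [hzfix] at this
    omega
  obtain ⟨hb'x, hb'y⟩ := hb'xy
  -- `c` vanishes at `x`, `y` and `r`
  have hout : ∀ z, (z = x ∨ z = y) → X.c z = 0 := by
    intro z hzz
    by_contra hcz
    have hwz : X.w z = 0 := by rcases hzz with rfl | rfl <;> assumption
    have hbz1 : X.b z ≠ 0 := by rcases hzz with rfl | rfl <;> omega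
    have hb'z : X.b' z = 0 := by rcases hzz with rfl | rfl <;> assumption
    have hσw : X.w (X.σ z) = 0 := by rw [σ_w]; exact hwz
    have hσb : X.b (X.σ z) = 0 := by rw [X.σ_b]; exact hb'z
    have hne : z ≠ X.σ z := fun e => hbz1 (e ▸ hσb)
    have hcz' : X.c (X.σ z) ≠ 0 := by rw [X.σ_c]; exact hcz
    have hsupp := eq_zero_of_card (m := 2) X.cc {z, X.σ z}
      (fun i hi => by
        simp only [Finset.mem_insert, Finset.mem_singleton] at hi
        rcases hi with rfl | rfl <;> assumption)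
      (by rw [Finset.card_pair hne])
    have h := X.bc
    rw [Finset.sum_eq_single z (fun i _ hi => by
        by_cases e : i = X.σ z
        · rw [e, hσb, zero_mul]
        · rw [hsupp i (by simp [hi, e]), mul_zero])
      (fun e => absurd (Finset.mem_univ z) e)] at h
    exact (mul_ne_zero hbz1 hcz) h
  have hcx := hout x (Or.inl rfl)
  have hcy := hout y (Or.inr rfl)
  have hbc := X.bc
  rw [S4 _ (fun i hi => by rw [hi, zero_mul]), hbp, hbq, hcx, hcy, mul_zero, mul_zero, add_zero, add_zero] at hbc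
  have hwc := wc X
  rw [S3 _ (fun i hi => by rw [hi, zero_mul]), X.c_o, mul_zero, zero_add] at hwc
  have hcrz : X.c r = 0 := by rcases hwr with u | u <;> rw [u] at hwc <;> omega
  have hap : X.a p = X.w p := by simp only [Table.w] at hbp hcp ⊢; omega
  have haq : X.a q = X.w q := by simp only [Table.w] at hbq hcq ⊢; omega
  have har : X.a r = -X.w r := by simp only [Table.w] at hbr hcr ⊢; omega
  have hax : X.a x = X.b x := by simp only [Table.w] at hwx; omega
  have hay : X.a y = X.b y := by simp only [Table.w] at hwy; omega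
  have hTp : X.T p = 5 * X.w p + 4 * X.c p := by simp only [Table.T, hap, hbp, hcp]; ring
  have hTq : X.T q = 5 * X.w q + 4 * X.c q := by simp only [Table.T, haq, hbq, hcq]; ring
  have hcpq : X.c p = 0 ∧ X.c q = 0 := by
    by_contra hne
    have hp0 : X.c p ≠ 0 ∧ X.c q ≠ 0 := by
      rcases hwp with u | u <;> rcases hwq with v | v <;> rw [u, v] at hbc <;> omega
    have hsupp := eq_zero_of_card (m := 2) X.cc {p, q}
      (fun i hi => by
        simp only [Finset.mem_insert, Finset.mem_singleton] at hi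
        rcases hi with rfl | rfl; exacts [hp0.1, hp0.2])
      (by rw [Finset.card_pair hpq])
    have S2 : ∀ {R : Type} [AddCommMonoid R] (f : ι → R), (∀ i, X.c i = 0 → f i = 0) → ∑ i, f i = f p + f q := by
      intro R _ f hf
      rw [← Finset.sum_pair hpq]
      exact (Finset.sum_subset (Finset.subset_univ _) fun i _ hi => hf i (hsupp i hi)).symm
    have hd := X.dc
    rw [S2 _ (fun i hi => by rw [hi, mul_zero])] at hd
    have hc := X.eq_c
    rw [S2 _ (fun i hi => by rw [hi]; simp)] at hc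
    change (X.c p : ℚ) * (X.T p : ℚ) ^ 2 / X.d p + (X.c q : ℚ) * (X.T q : ℚ) ^ 2 / X.d q = 0 at hc
    have hcp' := (c_small X p).resolve_left hp0.1
    have hcq' := (c_small X q).resolve_left hp0.2
    have hdq : X.d p = X.d q := by
      have := X.d_pos p; have := X.d_pos q
      rcases hcp' with u | u <;> rcases hcq' with v | v <;> rw [u, v] at hd <;> omega
    have hd0 : (X.d q : ℚ) ≠ 0 := by have := X.d_pos q; exact_mod_cast this.ne'
    rw [hdq, ← add_div, div_eq_zero_iff, or_iff_left hd0, hTp, hTq] at hc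
    rcases hcp' with u | u <;> rcases hcq' with v | v <;> rcases hwp with s | s <;> rcases hwq with t | t <;>
      simp only [u, v, s, t] at hbc <;> simp only [u, v, s, t] at hc <;> (try norm_num at hc) <;> norm_num at hbc
  obtain ⟨hcp0, hcq0⟩ := hcpq
  have hTp' : X.T p = 5 * X.w p := by rw [hTp, hcp0]; ring
  have hTq' : X.T q = 5 * X.w q := by rw [hTq, hcq0]; ring
  have hTr : X.T r = -X.w r := by simp only [Table.T, har, hbr, hcr, hcrz]; ring
  have hTx : X.T x = 3 * X.b x := by simp only [Table.T, hax, hb'x, hcx]; ring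
  have hTy : X.T y = 3 * X.b y := by simp only [Table.T, hay, hb'y, hcy]; ring
  set α := X.w p * X.d p with hα
  set β := X.w q * X.d q with hβ
  set δ := -(X.w r * X.d r) with hδ
  set γ := X.b x * X.d x with hγ
  set ε := X.b y * X.d y with hε
  have hαm : α % 8 = 5 := by
    have := cong' X p; rw [hTp'] at this
    rcases hwp with u | u <;> rw [u] at this hα <;> omega
  have hβm : β % 8 = 5 := by
    have := cong' X q; rw [hTq'] at this
    rcases hwq with u | u <;> rw [u] at this hβ <;> omega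
  have hδm : δ % 8 = 1 := by
    have := cong' X r; rw [hTr] at this
    rcases hwr with u | u <;> rw [u] at this hδ <;> omega
  have hγm : γ % 8 = 3 := by
    have := cong' X x; rw [hTx] at this
    rcases hbx with u | u <;> rw [u] at this hγ <;> omega
  have hεm : ε % 8 = 3 := by
    have := cong' X y; rw [hTy] at this
    rcases hby with u | u <;> rw [u] at this hε <;> omega
  have hs : α + β = 1 + δ := by
    have h := dw X
    rw [S3 _ (fun i hi => by rw [hi, mul_zero]), X.d_o, w_o] at h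
    simp only [hα, hβ, hδ]; linear_combination h
  have hs' : α + β + γ + ε = 0 := by
    have h := X.db
    rw [S4 _ (fun i hi => by rw [hi, mul_zero]), hbp, hbq] at h
    simp only [hα, hβ, hγ, hε]; linear_combination h
  have hαq : (α : ℚ) ≠ 0 := by exact_mod_cast (show α ≠ 0 by omega)
  have hβq : (β : ℚ) ≠ 0 := by exact_mod_cast (show β ≠ 0 by omega)
  have hδq : (δ : ℚ) ≠ 0 := by exact_mod_cast (show δ ≠ 0 by omega)
  have hγq : (γ : ℚ) ≠ 0 := by exact_mod_cast (show γ ≠ 0 by omega)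
  have hεq : (ε : ℚ) ≠ 0 := by exact_mod_cast (show ε ≠ 0 by omega)
  have hnq : (n : ℚ) ≠ 0 := by exact_mod_cast (show n ≠ 0 by omega)
  have e1 : -1 + 25 / (α : ℚ) + 25 / β - 1 / δ = -86400 / n := by
    rw [← X.eq_w]
    change _ = ∑ i, ((X.b i + X.b' i - X.a i : ℤ) : ℚ) * (X.T i : ℚ) ^ 2 / (X.d i : ℚ)
    rw [S3 (fun i => ((X.b i + X.b' i - X.a i : ℤ) : ℚ) * (X.T i : ℚ) ^ 2 / (X.d i : ℚ))
      (fun i hi => by simp only [Table.w] at hi; rw [hi]; simp)]
    change _ = (X.w X.o : ℚ) * (X.T X.o : ℚ) ^ 2 / X.d X.o + (X.w p : ℚ) * (X.T p : ℚ) ^ 2 / X.d p +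
      (X.w q : ℚ) * (X.T q : ℚ) ^ 2 / X.d q + (X.w r : ℚ) * (X.T r : ℚ) ^ 2 / X.d r
    have hTo : X.T X.o = 1 := by simp [Table.T, X.a_o, X.b_o, X.b'_o, X.c_o]
    rw [w_o, hTo, X.d_o, hTp', hTq', hTr, hα, hβ, hδ]
    have hp2 := mul_self_of hwp
    have hq2 := mul_self_of hwq
    have hr2 := mul_self_of hwr
    have ip := inv_signed hwp (X.d p)
    have iq := inv_signed hwq (X.d q)
    have ir := inv_signed hwr (X.d r)
    push_cast at ip iq ir ⊢
    rw [div_neg]
    linear_combination (-25 : ℚ) * ip - 25 * iq - ir - (25 * (X.w p : ℚ) / X.d p) * hp2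
      - (25 * (X.w q : ℚ) / X.d q) * hq2 - ((X.w r : ℚ) / X.d r) * hr2
  have e2 : 25 / (α : ℚ) + 25 / β + 9 / γ + 9 / ε = 57600 / n := by
    rw [← X.eq_b]
    change _ = ∑ i, (X.b i : ℚ) * (X.T i : ℚ) ^ 2 / (X.d i : ℚ)
    rw [S4 (fun i => (X.b i : ℚ) * (X.T i : ℚ) ^ 2 / (X.d i : ℚ)) (fun i hi => by rw [hi]; simp)]
    rw [hbp, hbq, hTp', hTq', hTx, hTy, hα, hβ, hγ, hε]
    have hp2 := mul_self_of hwp
    have hq2 := mul_self_of hwq
    have hx2 := mul_self_of hbx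
    have hy2 := mul_self_of hby
    have ip := inv_signed hwp (X.d p)
    have iq := inv_signed hwq (X.d q)
    have ix := inv_signed hbx (X.d x)
    have iy := inv_signed hby (X.d y)
    push_cast at ip iq ix iy ⊢
    linear_combination (-25 : ℚ) * ip - 25 * iq - 9 * ix - 9 * iy - (25 * (X.w p : ℚ) / X.d p) * hp2
      - (25 * (X.w q : ℚ) / X.d q) * hq2 - (9 * (X.b x : ℚ) / X.d x) * hx2 - (9 * (X.b y : ℚ) / X.d y) * hy2
  field_simp at e1 e2
  have f1 : (-α * β * δ + 25 * β * δ + 25 * α * δ - α * β) * (n : ℤ) = -86400 * α * β * δ := by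
    have : ((-α * β * δ + 25 * β * δ + 25 * α * δ - α * β : ℤ) : ℚ) * (n : ℚ) =
        ((-86400 * α * β * δ : ℤ) : ℚ) := by push_cast; linear_combination e1
    exact_mod_cast this
  have f2 : (25 * β * γ * ε + 25 * α * γ * ε + 9 * α * β * ε + 9 * α * β * γ) * (n : ℤ) =
      57600 * α * β * γ * ε := by
    have : ((25 * β * γ * ε + 25 * α * γ * ε + 9 * α * β * ε + 9 * α * β * γ : ℤ) : ℚ) * (n : ℚ) =
        ((57600 * α * β * γ * ε : ℤ) : ℚ) := by push_cast; linear_combination e2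
    exact_mod_cast this
  have g1 : (n : ℤ) * (1 + δ) * (α * β - 25 * δ) = 86400 * δ * α * β := by
    linear_combination -f1 + 25 * δ * (n : ℤ) * hs
  have g2 : γ * ε * ((n : ℤ) * (1 + δ) - 144000 * δ) = 9 * (1 + δ) * δ * n := by
    have : α * β * (γ * ε * ((n : ℤ) * (1 + δ) - 144000 * δ) - 9 * (1 + δ) * δ * n) = 0 := by
      linear_combination (γ * ε) * g1 + δ * f2 - 25 * δ * γ * ε * (n : ℤ) * hs
        - 9 * α * β * δ * (n : ℤ) * (hs' - hs)
    rcases mul_eq_zero.1 this with h | h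
    · exact absurd (mul_eq_zero.1 h) (by omega)
    · linarith
  have hbound : α ^ 2 + β ^ 2 + δ ^ 2 ≤ (n : ℤ) := by
    have h := small_of_sum_sq X.sum_sq {p, q, r}
    rw [Finset.sum_insert (by simp [hpq, hpr]), Finset.sum_pair hqr] at h
    rcases hwp with u | u <;> rcases hwq with v | v <;> rcases hwr with s | s <;>
      rw [hα, hβ, hδ, u, v, s] <;> linarith
  have h120' : (n : ℤ) % 240 = 120 := by omega
  have hpos : (0 : ℤ) < n := by omega
  -- the degree 35
  have bad : ∀ {z z' : ι}, (z = p ∧ z' = q ∨ z = q ∧ z' = p) → n = 189000 → X.w z * X.d z = -35 →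
      X.w z' * X.d z' = 21 → X.Bad := by
    intro z z' hzz hn h35 h21
    have hwz : X.w z = 1 ∨ X.w z = -1 := by rcases hzz with ⟨rfl, -⟩ | ⟨rfl, -⟩ <;> assumption
    have hdz := X.d_pos z
    have hw1 : X.w z = -1 := by rcases hwz with u | u; · rw [u] at h35; omega
                                exact u
    have hd35 : X.d z = 35 := by rw [hw1] at h35; omega
    obtain ⟨ha', hb1, hb2, hc0⟩ : X.a z = X.w z ∧ X.b z = X.w z ∧ X.b' z = X.w z ∧ X.c z = 0 := by
      rcases hzz with ⟨rfl, -⟩ | ⟨rfl, -⟩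
      exacts [⟨hap, hbp, hcp, hcp0⟩, ⟨haq, hbq, hcq, hcq0⟩]
    refine ⟨hn, z, hd35, ?_, ha'.trans hw1, hb1.trans hw1, hb2.trans hw1, hc0⟩
    have hσw : X.w (X.σ z) = -1 := by rw [σ_w]; exact hw1
    have hσb : X.b (X.σ z) = -1 := by rw [X.σ_b, hb2, hw1]
    have hmem : X.σ z = p ∨ X.σ z = q := by
      by_contra hcon
      push Not at hcon
      have hσo : X.σ z ≠ X.o := fun e => by rw [e, X.b_o] at hσb; omega
      have : X.σ z = r := by
        by_contra hr'
        have := hz _ hσo hcon.1 hcon.2 hr'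
        omega
      rw [this, hbr] at hσb; omega
    by_contra hne
    have he : X.σ z = z' := by
      rcases hzz with ⟨rfl, rfl⟩ | ⟨rfl, rfl⟩ <;> rcases hmem with e | e
      exacts [absurd e hne, e, e, absurd e hne]
    have h1 := X.σ_d z
    rw [he, hd35] at h1
    rw [← he, hσw] at h21
    rw [he, h1] at h21
    omega
  rcases le_total |α| |β| with hab | hab
  · rcases Arith.survivorsA hpos h120' hαm hβm hδm hs hab hbound g1 g2 with
      ⟨a1, a2, a3, a4⟩ | ⟨a1, a2, a3, a4⟩ | ⟨a1, a2, a3, a4⟩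
    · exfalso
      rw [a1, a4] at g2
      have : ε = 30 - γ := by omega
      rw [this] at g2
      exact quad_no_root (A := 1) (B := -30) (C := 465) (μ := γ) (k := 0) (by linarith) (Or.inl (by norm_num))
    · exact Or.inr (bad (Or.inr ⟨rfl, rfl⟩) (by omega) (hβ ▸ a3) (hα ▸ a2))
    · left; omega
  · rcases Arith.survivorsA hpos h120' hβm hαm hδm (by linarith) hab (by linarith)
        (by linear_combination g1) g2 with
      ⟨a1, a2, a3, a4⟩ | ⟨a1, a2, a3, a4⟩ | ⟨a1, a2, a3, a4⟩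
    · exfalso
      rw [a1, a4] at g2
      have : ε = 30 - γ := by omega
      rw [this] at g2
      exact quad_no_root (A := 1) (B := -30) (C := 465) (μ := γ) (k := 0) (by linarith) (Or.inl (by norm_num))
    · exact Or.inr (bad (Or.inl ⟨rfl, rfl⟩) (by omega) (hα ▸ a3) (hβ ▸ a2))
    · left; omega

/-- The second configuration does not occur. -/
theorem caseB {p q r : ι} (hpo : p ≠ X.o) (hqo : q ≠ X.o) (hro : r ≠ X.o) (hpq : p ≠ q) (hpr : p ≠ r)
    (hqr : q ≠ r) (hwp : X.w p = 1 ∨ X.w p = -1) (hwq : X.w q = 1 ∨ X.w q = -1) (hwr : X.w r = 1 ∨ X.w r = -1)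
    (hz : ∀ i, i ≠ X.o → i ≠ p → i ≠ q → i ≠ r → X.w i = 0)
    (hbp : X.b p = X.w p) (hbq : X.b q = X.w q) (hbr : X.b r = 0)
    (hcp : X.b' p = X.w p) (hcq : X.b' q = 0) (hcr : X.b' r = X.w r) : False := by
  classical
  obtain ⟨x₀, y₀, hxy, hxo, hyo, hxp, hxq, hxr, hyp, hyq, hyr, hwx, hwy, hbx, hby, hbz⟩ :=
    exists_outside X hpq hpr hqr hwp hwq hz hbp hbq hbr
  have h := X.bb'
  rw [sum_four _ hpq hxp.symm hyp.symm hxq.symm hyq.symm hxy
    (fun i a b c d => by rw [hbz i a b c d, zero_mul]), hbp, hcp, hcq] at h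
  obtain ⟨x, y, hxy', hxp', hxq', hyp', hyq', hxr', hyr', hwx', hwy', hbx', hby', hb'x, hb'y, hbz'⟩ :
      ∃ x y : ι, x ≠ y ∧ x ≠ p ∧ x ≠ q ∧ y ≠ p ∧ y ≠ q ∧ x ≠ r ∧ y ≠ r ∧ X.w x = 0 ∧ X.w y = 0 ∧
        (X.b x = 1 ∨ X.b x = -1) ∧ (X.b y = 1 ∨ X.b y = -1) ∧ X.b' x = X.b x ∧ X.b' y = 0 ∧
        ∀ i, i ≠ p → i ≠ q → i ≠ x → i ≠ y → X.b i = 0 := by
    rcases hbx with u | u <;> rcases hby with v | v <;> rcases b'_small X x₀ with s | s | s <;>
      rcases b'_small X y₀ with t | t | t <;> rcases hwp with w1 | w1 <;>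
      simp only [u, v, s, t, w1] at h <;>
      first
        | (exfalso; omega)
        | (refine ⟨x₀, y₀, hxy, hxp, hxq, hyp, hyq, hxr, hyr, hwx, hwy, ?_, ?_, ?_, ?_, hbz⟩ <;> omega)
        | (refine ⟨y₀, x₀, hxy.symm, hyp, hyq, hxp, hxq, hyr, hxr, hwy, hwx, ?_, ?_, ?_, ?_,
            fun i a b c d => hbz i a b d c⟩ <;> omega)
  have S3 : ∀ {R : Type} [AddCommMonoid R] (f : ι → R), (∀ i, X.w i = 0 → f i = 0) →
      ∑ i, f i = f X.o + f p + f q + f r := fun f hf =>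
    sum_three f hpo.symm hqo.symm hro.symm hpq hpr hqr fun i a b c d => hf i (hz i a b c d)
  have S4 : ∀ {R : Type} [AddCommMonoid R] (f : ι → R), (∀ i, X.b i = 0 → f i = 0) →
      ∑ i, f i = f p + f q + f x + f y := fun f hf =>
    sum_four f hpq hxp'.symm hyp'.symm hxq'.symm hyq'.symm hxy' fun i a b c d => hf i (hbz' i a b c d)
  have hσq : X.σ q = r := by
    have h1 : X.b (X.σ q) = 0 := by rw [X.σ_b, hcq]
    have h2 : X.w (X.σ q) = X.w q := σ_w X q
    have h3 : X.b' (X.σ q) ≠ 0 := by rw [X.σ_b', hbq]; omega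
    by_contra hne
    by_cases e : X.σ q = X.o
    · exact h3 (by rw [e, X.b'_o])
    by_cases e1 : X.σ q = p
    · rw [e1, hbp] at h1; omega
    by_cases e2 : X.σ q = q
    · rw [e2, hbq] at h1; omega
    have := hz _ e e1 e2 hne
    omega
  have hwrq : X.w r = X.w q := hσq ▸ σ_w X q
  have hdrq : X.d r = X.d q := hσq ▸ X.σ_d q
  have hcrq : X.c r = X.c q := hσq ▸ X.σ_c q
  -- `c` vanishes on all six rows
  have hwc := wc X
  rw [S3 _ (fun i hi => by rw [hi, zero_mul]), X.c_o, mul_zero, zero_add, hwrq, hcrq] at hwc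
  have hcpq : X.c p = 0 ∧ X.c q = 0 := by
    rcases c_small X p with u | u | u <;> rcases c_small X q with v | v | v <;> rcases hwp with s | s <;>
      rcases hwq with t | t <;> simp only [u, v, s, t] at hwc <;> omega
  have hbc := X.bc
  rw [S4 _ (fun i hi => by rw [hi, zero_mul]), hcpq.1, hcpq.2, mul_zero, mul_zero, zero_add, zero_add] at hbc
  have hcy : X.c y = 0 := by
    by_contra hne
    have hx0 : X.c x ≠ 0 := by
      intro e
      rw [e, mul_zero, zero_add] at hbc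
      exact mul_ne_zero (by omega) hne hbc
    have hσy : X.c (X.σ y) ≠ 0 := by rw [X.σ_c]; exact hne
    refine hσy (eq_zero_of_card (m := 2) X.cc {x, y}
      (fun i hi => by
        simp only [Finset.mem_insert, Finset.mem_singleton] at hi
        rcases hi with rfl | rfl <;> assumption)
      (by rw [Finset.card_pair hxy']) _ ?_)
    have h1 : X.b (X.σ y) = 0 := by rw [X.σ_b, hb'y]
    simp only [Finset.mem_insert, Finset.mem_singleton, not_or]
    constructor <;> intro e <;> rw [e] at h1 <;> omega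
  have hcx : X.c x = 0 := by
    rw [hcy, mul_zero, add_zero] at hbc
    rcases hbx' with u | u <;> rw [u] at hbc <;> omega
  have hTp : X.T p = 5 * X.w p := by
    have : X.a p = X.w p := by simp only [Table.w] at hbp hcp ⊢; omega
    simp only [Table.T, this, hbp, hcp, hcpq.1]; ring
  have hTq : X.T q = 2 * X.w q := by
    have : X.a q = 0 := by simp only [Table.w] at hbq; omega
    simp only [Table.T, this, hbq, hcq, hcpq.2]; ring
  have hTr : X.T r = 2 * X.w q := by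
    have : X.a r = 0 := by simp only [Table.w] at hcr; omega
    simp only [Table.T, this, hbr, hcr, hcrq, hcpq.2, hwrq]; ring
  have hTx : X.T x = 6 * X.b x := by
    have : X.a x = 2 * X.b x := by simp only [Table.w] at hwx'; omega
    simp only [Table.T, this, hb'x, hcx]; ring
  have hTy : X.T y = 3 * X.b y := by
    have : X.a y = X.b y := by simp only [Table.w] at hwy'; omega
    simp only [Table.T, this, hb'y, hcy]; ring
  set α := X.w p * X.d p with hα
  set η := X.w q * X.d q with hη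
  set μ := X.b x * X.d x with hμ
  set γ := X.b y * X.d y with hγ
  have hαm : α % 8 = 5 := by
    have := cong' X p; rw [hTp] at this
    rcases hwp with u | u <;> rw [u] at this hα <;> omega
  have hηm : η % 8 = 2 := by
    have := cong' X q; rw [hTq] at this
    rcases hwq with u | u <;> rw [u] at this hη <;> omega
  have hs : α = 1 - 2 * η := by
    have h := dw X
    rw [S3 _ (fun i hi => by rw [hi, mul_zero]), X.d_o, w_o, hwrq, hdrq] at h
    simp only [hα, hη]; linear_combination h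
  have hs' : α + η + μ + γ = 0 := by
    have h := X.db
    rw [S4 _ (fun i hi => by rw [hi, mul_zero]), hbp, hbq] at h
    simp only [hα, hη, hμ, hγ]; linear_combination h
  have hnq : (n : ℚ) ≠ 0 := by exact_mod_cast (show n ≠ 0 by omega)
  have hαq : (α : ℚ) ≠ 0 := by exact_mod_cast (show α ≠ 0 by omega)
  have hηq : (η : ℚ) ≠ 0 := by exact_mod_cast (show η ≠ 0 by omega)
  have hμ0 : μ ≠ 0 := by have := X.d_pos x; exact mul_ne_zero (by omega) (by omega)
  have hγ0 : γ ≠ 0 := by have := X.d_pos y; exact mul_ne_zero (by omega) (by omega)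
  have hμq : (μ : ℚ) ≠ 0 := by exact_mod_cast hμ0
  have hγq : (γ : ℚ) ≠ 0 := by exact_mod_cast hγ0
  have e1 : -1 + 25 / (α : ℚ) + 8 / η = -86400 / n := by
    rw [← X.eq_w]
    change _ = ∑ i, ((X.b i + X.b' i - X.a i : ℤ) : ℚ) * (X.T i : ℚ) ^ 2 / (X.d i : ℚ)
    rw [S3 (fun i => ((X.b i + X.b' i - X.a i : ℤ) : ℚ) * (X.T i : ℚ) ^ 2 / (X.d i : ℚ))
      (fun i hi => by simp only [Table.w] at hi; rw [hi]; simp)]
    change _ = (X.w X.o : ℚ) * (X.T X.o : ℚ) ^ 2 / X.d X.o + (X.w p : ℚ) * (X.T p : ℚ) ^ 2 / X.d p +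
      (X.w q : ℚ) * (X.T q : ℚ) ^ 2 / X.d q + (X.w r : ℚ) * (X.T r : ℚ) ^ 2 / X.d r
    have hTo : X.T X.o = 1 := by simp [Table.T, X.a_o, X.b_o, X.b'_o, X.c_o]
    rw [w_o, hTo, X.d_o, hTp, hTq, hTr, hwrq, hdrq, hα, hη]
    have hp2 := mul_self_of hwp
    have hq2 := mul_self_of hwq
    have ip := inv_signed hwp (X.d p)
    have iq := inv_signed hwq (X.d q)
    push_cast at ip iq ⊢
    linear_combination (-25 : ℚ) * ip - 8 * iq - (25 * (X.w p : ℚ) / X.d p) * hp2
      - (8 * (X.w q : ℚ) / X.d q) * hq2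
  have e2 : 25 / (α : ℚ) + 4 / η + 36 / μ + 9 / γ = 57600 / n := by
    rw [← X.eq_b]
    change _ = ∑ i, (X.b i : ℚ) * (X.T i : ℚ) ^ 2 / (X.d i : ℚ)
    rw [S4 (fun i => (X.b i : ℚ) * (X.T i : ℚ) ^ 2 / (X.d i : ℚ)) (fun i hi => by rw [hi]; simp)]
    rw [hbp, hbq, hTp, hTq, hTx, hTy, hα, hη, hμ, hγ]
    have hp2 := mul_self_of hwp
    have hq2 := mul_self_of hwq
    have hx2 := mul_self_of hbx'
    have hy2 := mul_self_of hby'
    have ip := inv_signed hwp (X.d p)
    have iq := inv_signed hwq (X.d q)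
    have ix := inv_signed hbx' (X.d x)
    have iy := inv_signed hby' (X.d y)
    push_cast at ip iq ix iy ⊢
    linear_combination (-25 : ℚ) * ip - 4 * iq - 36 * ix - 9 * iy - (25 * (X.w p : ℚ) / X.d p) * hp2
      - (4 * (X.w q : ℚ) / X.d q) * hq2 - (36 * (X.b x : ℚ) / X.d x) * hx2 - (9 * (X.b y : ℚ) / X.d y) * hy2
  field_simp at e1 e2
  have f1 : (-α * η + 25 * η + 8 * α) * (n : ℤ) = -86400 * α * η := by
    have : ((-α * η + 25 * η + 8 * α : ℤ) : ℚ) * (n : ℚ) = ((-86400 * α * η : ℤ) : ℚ) := by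
      push_cast; linear_combination e1
    exact_mod_cast this
  have f2 : (25 * η * μ * γ + 4 * α * μ * γ + 36 * α * η * γ + 9 * α * η * μ) * (n : ℤ) =
      57600 * α * η * μ * γ := by
    have : ((25 * η * μ * γ + 4 * α * μ * γ + 36 * α * η * γ + 9 * α * η * μ : ℤ) : ℚ) * (n : ℚ) =
        ((57600 * α * η * μ * γ : ℤ) : ℚ) := by push_cast; linear_combination e2
    exact_mod_cast this
  have hγe : γ = η - 1 - μ := by omega
  have g1 : (n : ℤ) * ((η + 2) * (η + 2)) = 43200 * η * (2 * η - 1) := by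
    rw [hs] at f1
    have : 2 * ((n : ℤ) * ((η + 2) * (η + 2)) - 43200 * η * (2 * η - 1)) = 0 := by linear_combination f1
    linarith
  have hbound : (1 - 2 * η) ^ 2 + 2 * η ^ 2 ≤ (n : ℤ) := by
    have h := small_of_sum_sq X.sum_sq {p, q, r}
    rw [Finset.sum_insert (by simp [hpq, hpr]), Finset.sum_pair hqr, hdrq] at h
    rw [← hs]
    rcases hwp with u | u <;> rcases hwq with v | v <;> rw [hα, hη, u, v] <;> linarith
  have hmem := Arith.survivorsB (n := (n : ℤ)) (by omega) hηm hbound g1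
  simp only [List.mem_cons, List.not_mem_nil, or_false, Prod.mk.injEq] at hmem
  rw [hs, hγe] at f2
  rcases hmem with ⟨a, b⟩ | ⟨a, b⟩ | ⟨a, b⟩ | ⟨a, b⟩ | ⟨a, b⟩ | ⟨a, b⟩ | ⟨a, b⟩ | ⟨a, b⟩ <;> rw [a, b] at f2
  · exact quad_no_root (A := -5) (B := -36) (C := 23436) (μ := μ) (k := 685) (by linarith) (Or.inr (by norm_num))
  · exact quad_no_root (A := -49) (B := 6892) (C := 245916) (μ := μ) (k := 9782) (by linarith) (Or.inr (by norm_num))
  · exact quad_no_root (A := 1) (B := 276) (C := 5220) (μ := μ) (k := 235) (by linarith) (Or.inr (by norm_num))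
  · exact quad_no_root (A := 115) (B := 3964) (C := 29484) (μ := μ) (k := 1466) (by linarith) (Or.inr (by norm_num))
  · exact quad_no_root (A := -89) (B := 332) (C := -324) (μ := μ) (k := 0) (by linarith) (Or.inl (by norm_num))
  · exact quad_no_root (A := -61) (B := 1404) (C := -10260) (μ := μ) (k := 0) (by linarith) (Or.inl (by norm_num))
  · exact quad_no_root (A := -253) (B := 9404) (C := -115668) (μ := μ) (k := 0) (by linarith) (Or.inl (by norm_num))
  · exact quad_no_root (A := -193) (B := 17004) (C := -456228) (μ := μ) (k := 0) (by linarith) (Or.inl (by norm_num))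

/-- The order, up to the exceptional row. -/
theorem order_eq : n = 175560 ∨ X.Bad := by
  obtain ⟨p, q, r, hpo, hqo, hro, hpq, hpr, hqr, hwp, hwq, hwr, hz, hbp, hbq, hbr, hc⟩ := exists_pqr X
  rcases hc with ⟨c1, c2, c3⟩ | ⟨c1, c2, c3⟩
  · exact caseA X h120 hpo hqo hro hpq hpr hqr hwp hwq hwr hz hbp hbq hbr c1 c2 c3
  · exact absurd (caseB X h120 hpo hqo hro hpq hpr hqr hwp hwq hwr hz hbp hbq hbr c1 c2 c3) id

end Cfsg.Agent.Lib.J1Order.Rows
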