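/-
Finite facts on `2 × A₅`.
-/
import Mathlib

set_option autoImplicit false

namespace Cfsg.Agent.Lib.J1Order

/-- The group `2 × A₅`. -/
abbrev Model := Multiplicative (ZMod 2) × alternatingGroup (Fin 5)

/-- The double transposition `(0 1)(2 3)`. -/
def s0 : alternatingGroup (Fin 5) :=
  ⟨Equiv.swap 0 1 * Equiv.swap 2 3, Equiv.Perm.mem_alternatingGroup.2 (by decide)⟩

/-- The double transposition `(0 2)(1 3)`. -/
def s1 : alternatingGroup (Fin 5) :=
  ⟨Equiv.swap 0 2 * Equiv.swap 1 3, Equiv.Perm.mem_alternatingGroup.2 (by decide)⟩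

/-- A 3-cycle. -/
def g3 : alternatingGroup (Fin 5) :=
  ⟨Equiv.swap 0 1 * Equiv.swap 1 2, Equiv.Perm.mem_alternatingGroup.2 (by decide)⟩

/-- A 5-cycle. -/
def g5 : alternatingGroup (Fin 5) :=
  ⟨Equiv.swap 0 1 * Equiv.swap 1 2 * Equiv.swap 2 3 * Equiv.swap 3 4,
    Equiv.Perm.mem_alternatingGroup.2 (by decide)⟩

/-- The central involution. -/
def zed : Model := (Multiplicative.ofAdd 1, 1)

/-- The four group `{1, s0, s1, s0 * s1}`. -/
def four : Subgroup (alternatingGroup (Fin 5)) where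
  carrier := {b | b = 1 ∨ b = s0 ∨ b = s1 ∨ b = s0 * s1}
  one_mem' := Or.inl rfl
  mul_mem' := by
    intro a b ha hb
    rcases ha with rfl | rfl | rfl | rfl <;> rcases hb with rfl | rfl | rfl | rfl <;>
      simp only [Set.mem_setOf_eq] <;> decide
  inv_mem' := by
    intro a ha
    rcases ha with rfl | rfl | rfl | rfl <;> simp only [Set.mem_setOf_eq] <;> decide

theorem mem_four {b : alternatingGroup (Fin 5)} : b ∈ four ↔ b = 1 ∨ b = s0 ∨ b = s1 ∨ b = s0 * s1 :=
  Iff.rfl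

theorem card_four : Nat.card four = 4 := by
  rw [Nat.card_congr (Equiv.subtypeEquivRight fun b => (mem_four : b ∈ four ↔ _)), Nat.card_eq_fintype_card]
  decide +kernel

theorem center_eq : ∀ b : alternatingGroup (Fin 5), b * g3 = g3 * b → b * g5 = g5 * b → b = 1 := by
  decide +kernel

theorem central_involution : ∀ d : Model, d * d = 1 → d ≠ 1 → d.2 = 1 → d = zed := by decide +kernel

theorem classify : ∀ b : alternatingGroup (Fin 5), ∃ a,
    a * b * a⁻¹ = 1 ∨ a * b * a⁻¹ = s0 ∨ a * b * a⁻¹ = g3 ∨ a * b * a⁻¹ = g5 ∨ a * b * a⁻¹ = g5 * g5 := by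
  decide +kernel

theorem involution_conj : ∀ b : alternatingGroup (Fin 5), b * b = 1 → b ≠ 1 → ∃ a, a * b * a⁻¹ = s0 := by
  decide +kernel

theorem g3_normalizes : ∀ b : alternatingGroup (Fin 5), (b = 1 ∨ b = s0 ∨ b = s1 ∨ b = s0 * s1) →
    (g3 * b * g3⁻¹ = 1 ∨ g3 * b * g3⁻¹ = s0 ∨ g3 * b * g3⁻¹ = s1 ∨ g3 * b * g3⁻¹ = s0 * s1) := by
  decide +kernel

theorem four_trans : ∀ b c : alternatingGroup (Fin 5),
    (b = s0 ∨ b = s1 ∨ b = s0 * s1) → (c = s0 ∨ c = s1 ∨ c = s0 * s1) →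
      c = b ∨ c = g3 * b * g3⁻¹ ∨ c = g3 * g3 * b * (g3 * g3)⁻¹ := by
  decide +kernel

theorem g3_pow : g3 ^ 3 = 1 := by decide +kernel

theorem g5_pow : g5 ^ 5 = 1 := by decide +kernel

theorem g5_sq_pow : (g5 * g5) ^ 5 = 1 := by decide +kernel

theorem g5_not_conj : ¬ IsConj g5 (g5 * g5) := by
  rw [isConj_iff]; decide +kernel

theorem g3_not_one : ¬ IsConj (1 : alternatingGroup (Fin 5)) g3 := by
  rw [isConj_iff]; decide +kernel

theorem g5_not_one : ¬ IsConj (1 : alternatingGroup (Fin 5)) g5 := by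
  rw [isConj_iff]; decide +kernel

theorem g5_sq_not_one : ¬ IsConj (1 : alternatingGroup (Fin 5)) (g5 * g5) := by
  rw [isConj_iff]; decide +kernel

theorem g3_not_g5 : ¬ IsConj g3 g5 := by
  rw [isConj_iff]; decide +kernel

theorem g3_not_g5_sq : ¬ IsConj g3 (g5 * g5) := by
  rw [isConj_iff]; decide +kernel

theorem real_classes : (∃ a, a * g3 * a⁻¹ = g3⁻¹) ∧ (∃ a, a * g5 * a⁻¹ = g5⁻¹) ∧
    (∃ a, a * (g5 * g5) * a⁻¹ = (g5 * g5)⁻¹) := by
  decide +kernel

theorem card_cent :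
    Fintype.card {b : alternatingGroup (Fin 5) // b * g3 = g3 * b} = 3 ∧
      Fintype.card {b : alternatingGroup (Fin 5) // b * g5 = g5 * b} = 5 ∧
        Fintype.card {b : alternatingGroup (Fin 5) // b * (g5 * g5) = g5 * g5 * b} = 5 ∧
          Fintype.card (alternatingGroup (Fin 5)) = 60 := by
  decide +kernel

/-- The involutions `x` with `x * g` an involution. -/
abbrev Pair (g c : Model) : Prop := c ≠ 1 ∧ c * c = 1 ∧ c * g ≠ 1 ∧ c * g * (c * g) = 1

theorem card_pairs_one : Fintype.card {c : Model // Pair (zed * (1, 1)) c} = 30 := by decide +kernel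

theorem card_pairs_three : Fintype.card {c : Model // Pair (zed * (1, g3)) c} = 6 := by decide +kernel

theorem card_pairs_five : Fintype.card {c : Model // Pair (zed * (1, g5)) c} = 10 := by decide +kernel

theorem card_pairs_five' : Fintype.card {c : Model // Pair (zed * (1, g5 * g5)) c} = 10 := by decide +kernel

end Cfsg.Agent.Lib.J1Order
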