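/-
Simple groups with a 2-central involution whose centraliser is `2 × A₅`: the local structure.
-/
import Cfsg.Agent.Lib.J1Order.AltFive
import Cfsg.Agent.Lib.ZStar.StronglyClosed
import Cfsg.Agent.Lib.ZStar.Consequences
import Cfsg.Prelude.Def_SporadicB

set_option autoImplicit false

namespace Cfsg.Agent.Lib.J1Order.Structure

open Cfsg.Agent.Lib.J1Order

universe u

variable {G : Type u} [Group G] {t : G}

/-- The embedding of the second factor of the centraliser. -/
def psi (e : ↥(Subgroup.centralizer ({t} : Set G)) ≃* Model) : alternatingGroup (Fin 5) →* G :=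
  (Subgroup.centralizer ({t} : Set G)).subtype.comp
    (e.symm.toMonoidHom.comp (MonoidHom.inr (Multiplicative (ZMod 2)) (alternatingGroup (Fin 5))))

variable (e : ↥(Subgroup.centralizer ({t} : Set G)) ≃* Model)

theorem t_mem : t ∈ Subgroup.centralizer ({t} : Set G) := Subgroup.mem_centralizer_singleton_iff.2 rfl

theorem psi_eq (b : alternatingGroup (Fin 5)) : psi e b = (e.symm (1, b) : G) := rfl

theorem psi_mem (b : alternatingGroup (Fin 5)) : psi e b ∈ Subgroup.centralizer ({t} : Set G) :=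
  (e.symm (1, b)).2

theorem psi_comm (b : alternatingGroup (Fin 5)) : psi e b * t = t * psi e b :=
  Subgroup.mem_centralizer_singleton_iff.1 (psi_mem e b)

theorem psi_injective : Function.Injective (psi e) := fun a b h =>
  congrArg Prod.snd (e.symm.injective (Subtype.ext h : e.symm (1, a) = e.symm (1, b)))

theorem e_psi (b : alternatingGroup (Fin 5)) : e ⟨psi e b, psi_mem e b⟩ = (1, b) :=
  e.apply_symm_apply (1, b)

include e in
theorem card_centralizer : Nat.card ↥(Subgroup.centralizer ({t} : Set G)) = 120 := by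
  rw [Nat.card_congr e.toEquiv, Nat.card_prod, Nat.card_eq_fintype_card, Nat.card_eq_fintype_card,
    card_cent.2.2.2]
  rfl

variable (ht : orderOf t = 2)
include ht

theorem t_mul_self : t * t = 1 := by rw [← pow_two, ← ht, pow_orderOf_eq_one]

theorem t_inv : t⁻¹ = t := inv_eq_of_mul_eq_one_right (t_mul_self ht)

theorem t_ne_one : t ≠ 1 := fun h => by rw [h, orderOf_one] at ht; norm_num at ht

include e

theorem e_t : e ⟨t, t_mem⟩ = zed := by
  refine central_involution _ ?_ ?_ ?_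
  · rw [← map_mul, map_eq_one_iff e e.injective]
    exact Subtype.ext (t_mul_self ht)
  · rw [Ne, map_eq_one_iff e e.injective]
    exact fun h => t_ne_one ht (congrArg Subtype.val h)
  · have key : ∀ g : alternatingGroup (Fin 5), (e ⟨t, t_mem⟩).2 * g = g * (e ⟨t, t_mem⟩).2 := by
      intro g
      have h : e ⟨t, t_mem⟩ * (1, g) = (1, g) * e ⟨t, t_mem⟩ := by
        rw [← e.apply_symm_apply (1, g), ← map_mul, ← map_mul]
        exact congrArg e (Subtype.ext (psi_comm e g).symm)
      exact congrArg Prod.snd h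
    exact center_eq _ (key _) (key _)

theorem e_t_psi (b : alternatingGroup (Fin 5)) :
    e ⟨t * psi e b, mul_mem t_mem (psi_mem e b)⟩ = zed * (1, b) := by
  rw [← e_t e ht, ← e_psi e b, ← map_mul]
  rfl

theorem psi_ne_t (b : alternatingGroup (Fin 5)) : psi e b ≠ t := fun h => by
  have : e ⟨psi e b, psi_mem e b⟩ = e ⟨t, t_mem⟩ := congrArg e (Subtype.ext h)
  rw [e_psi, e_t e ht] at this
  have h1 : (1 : Multiplicative (ZMod 2)) = Multiplicative.ofAdd 1 := congrArg Prod.fst this
  exact absurd h1 (by decide)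

theorem eq_psi_or {c : G} (hc : c ∈ Subgroup.centralizer ({t} : Set G)) :
    ∃ b, c = psi e b ∨ c = t * psi e b := by
  refine ⟨(e ⟨c, hc⟩).2, ?_⟩
  have h2 : ∀ x : Multiplicative (ZMod 2), x = 1 ∨ x = Multiplicative.ofAdd 1 := by decide
  rcases h2 (e ⟨c, hc⟩).1 with h | h
  · left
    have h' : e ⟨c, hc⟩ = e ⟨psi e (e ⟨c, hc⟩).2, psi_mem e _⟩ := by
      rw [e_psi]; exact Prod.ext h rfl
    exact congrArg Subtype.val (e.injective h')
  · right
    have h' : e ⟨c, hc⟩ = e ⟨t * psi e (e ⟨c, hc⟩).2, mul_mem t_mem (psi_mem e _)⟩ := by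
      rw [e_t_psi e ht]; exact Prod.ext (by simp [zed, h]) (by simp [zed])
    exact congrArg Subtype.val (e.injective h')

omit ht in
theorem conj_psi (a b : alternatingGroup (Fin 5)) : psi e a * psi e b * (psi e a)⁻¹ = psi e (a * b * a⁻¹) := by
  simp

omit ht in
theorem conj_t_psi (a b : alternatingGroup (Fin 5)) :
    psi e a * (t * psi e b) * (psi e a)⁻¹ = t * psi e (a * b * a⁻¹) := by
  rw [← conj_psi e, ← mul_assoc (psi e a) t, psi_comm]
  group

omit ht in
theorem t_psi_pow (b : alternatingGroup (Fin 5)) (k : ℕ) : (t * psi e b) ^ k = t ^ k * psi e (b ^ k) := by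
  rw [(Commute.symm (psi_comm e b)).mul_pow, map_pow]

theorem t_psi_pow_odd {b : alternatingGroup (Fin 5)} {m : ℕ} (hm : Odd m) (hb : b ^ m = 1) :
    (t * psi e b) ^ m = t := by
  obtain ⟨k, rfl⟩ := hm
  rw [t_psi_pow, hb, map_one, mul_one, pow_succ, pow_mul, pow_two, t_mul_self ht, one_pow, one_mul]

/-- An element centralising `t * y`, `y` of odd order, centralises `t`. -/
theorem mem_of_comm {b : alternatingGroup (Fin 5)} {m : ℕ} (hm : Odd m) (hb : b ^ m = 1) {g : G}
    (hg : g * (t * psi e b) = t * psi e b * g) : g ∈ Subgroup.centralizer ({t} : Set G) := by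
  rw [Subgroup.mem_centralizer_singleton_iff]
  have h : Commute g (t * psi e b) := hg
  have := h.pow_right m
  rwa [t_psi_pow_odd e ht hm hb] at this

theorem card_centralizer_t_psi {b : alternatingGroup (Fin 5)} {m : ℕ} (hm : Odd m) (hb : b ^ m = 1) :
    Nat.card ↥(Subgroup.centralizer ({t * psi e b} : Set G)) =
      2 * Nat.card {a : alternatingGroup (Fin 5) // a * b = b * a} := by
  have h2 : (2 : ℕ) = Nat.card (Multiplicative (ZMod 2)) := by rw [Nat.card_eq_fintype_card]; rfl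
  rw [h2, ← Nat.card_prod]
  refine Nat.card_congr
    { toFun := fun g => ((e ⟨g, mem_of_comm e ht hm hb (Subgroup.mem_centralizer_singleton_iff.1 g.2)⟩).1,
        ⟨(e ⟨g, mem_of_comm e ht hm hb (Subgroup.mem_centralizer_singleton_iff.1 g.2)⟩).2, ?_⟩)
      invFun := fun p => ⟨(e.symm (p.1, p.2.1) : G), ?_⟩
      left_inv := fun g => Subtype.ext (by
        show ((e.symm (e ⟨g, _⟩) : ↥(Subgroup.centralizer ({t} : Set G))) : G) = g.1
        rw [e.symm_apply_apply])
      right_inv := fun p => ?_ }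
  · have hg := Subgroup.mem_centralizer_singleton_iff.1 g.2
    have h := congrArg e (show (⟨g, mem_of_comm e ht hm hb hg⟩ : ↥(Subgroup.centralizer ({t} : Set G))) *
      ⟨t * psi e b, mul_mem t_mem (psi_mem e b)⟩ = ⟨t * psi e b, mul_mem t_mem (psi_mem e b)⟩ *
      ⟨g, mem_of_comm e ht hm hb hg⟩ from Subtype.ext hg)
    rw [map_mul, map_mul, e_t_psi e ht] at h
    simpa [zed] using congrArg Prod.snd h
  · rw [Subgroup.mem_centralizer_singleton_iff]
    have h : e (e.symm (p.1, p.2.1) * ⟨t * psi e b, mul_mem t_mem (psi_mem e b)⟩) =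
        e (⟨t * psi e b, mul_mem t_mem (psi_mem e b)⟩ * e.symm (p.1, p.2.1)) := by
      rw [map_mul, map_mul, e_t_psi e ht, e.apply_symm_apply]
      exact Prod.ext (mul_comm _ _) (by simp [zed, p.2.2])
    exact congrArg Subtype.val (e.injective h)
  · have : e ⟨(e.symm (p.1, p.2.1) : G), (e.symm (p.1, p.2.1)).2⟩ = (p.1, p.2.1) := e.apply_symm_apply _
    have h1 := congrArg Prod.fst this
    have h2 := congrArg Prod.snd this
    exact Prod.ext h1 (Subtype.ext h2)

theorem isConj_of_t_psi {b b' : alternatingGroup (Fin 5)} {m : ℕ} (hm : Odd m) (hb : b ^ m = 1) {m' : ℕ}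
    (hm' : Odd m') (hb' : b' ^ m' = 1) (h : IsConj (t * psi e b) (t * psi e b')) : IsConj b b' := by
  obtain ⟨g, hg⟩ := isConj_iff.1 h
  have hgC : g ∈ Subgroup.centralizer ({t} : Set G) := by
    rw [Subgroup.mem_centralizer_singleton_iff]
    refine mul_inv_eq_iff_eq_mul.1 ?_
    have := congrArg (fun x => x ^ (m * m')) hg
    simp only [conj_pow] at this
    rw [t_psi_pow_odd e ht (hm.mul hm') (by rw [pow_mul, hb, one_pow]),
      t_psi_pow_odd e ht (hm.mul hm') (by rw [mul_comm, pow_mul, hb', one_pow])] at this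
    exact this
  obtain ⟨a, ha | ha⟩ := eq_psi_or e ht hgC <;> subst ha
  · rw [conj_t_psi] at hg
    exact isConj_iff.2 ⟨a, psi_injective e (mul_left_cancel hg)⟩
  · rw [show t * psi e a * (t * psi e b) * (t * psi e a)⁻¹ =
      t * (psi e a * (t * psi e b) * (psi e a)⁻¹) * t⁻¹ by group, conj_t_psi] at hg
    rw [← psi_comm e (a * b * a⁻¹),
      show t * (psi e (a * b * a⁻¹) * t) * t⁻¹ = t * psi e (a * b * a⁻¹) by group] at hg
    exact isConj_iff.2 ⟨a, psi_injective e (mul_left_cancel hg)⟩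

theorem card_pairs {b : alternatingGroup (Fin 5)} {m : ℕ} (hm : Odd m) (hb : b ^ m = 1) :
    Nat.card {x : G // x ≠ 1 ∧ x * x = 1 ∧ x * (t * psi e b) ≠ 1 ∧ x * (t * psi e b) * (x * (t * psi e b)) = 1} =
      Fintype.card {c : Model // Pair (zed * (1, b)) c} := by
  have hmem : ∀ x : G, x * x = 1 → x * (t * psi e b) * (x * (t * psi e b)) = 1 →
      x ∈ Subgroup.centralizer ({t} : Set G) := by
    intro x hx hxg
    have h1 : x * (t * psi e b) * x⁻¹ = (t * psi e b)⁻¹ := by
      rw [inv_eq_of_mul_eq_one_right hx]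
      exact eq_inv_of_mul_eq_one_left (by rwa [← mul_assoc] at hxg)
    have h2 := congrArg (fun y => y ^ m) h1
    simp only [conj_pow, inv_pow] at h2
    rw [t_psi_pow_odd e ht hm hb, t_inv ht] at h2
    exact Subgroup.mem_centralizer_singleton_iff.2 (mul_inv_eq_iff_eq_mul.1 h2)
  rw [← Nat.card_eq_fintype_card]
  have hgC : t * psi e b ∈ Subgroup.centralizer ({t} : Set G) := mul_mem t_mem (psi_mem e b)
  have hmap : ∀ c : ↥(Subgroup.centralizer ({t} : Set G)), Pair (zed * (1, b)) (e c) ↔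
      ((c : G) ≠ 1 ∧ (c : G) * c = 1 ∧ (c : G) * (t * psi e b) ≠ 1 ∧
        (c : G) * (t * psi e b) * ((c : G) * (t * psi e b)) = 1) := by
    intro c
    rw [Pair, ← e_t_psi e ht b]
    simp only [← map_mul, Ne, map_eq_one_iff e e.injective, ← OneMemClass.coe_eq_one, Subgroup.coe_mul]
  refine Nat.card_congr
    { toFun := fun x => ⟨e ⟨x.1, hmem x.1 x.2.2.1 x.2.2.2.2⟩, (hmap _).2 x.2⟩
      invFun := fun c => ⟨(e.symm c.1 : G), (hmap _).1 (by rw [e.apply_symm_apply]; exact c.2)⟩
      left_inv := fun x => Subtype.ext (by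
        show ((e.symm (e ⟨x.1, _⟩) : ↥(Subgroup.centralizer ({t} : Set G))) : G) = x.1
        rw [e.symm_apply_apply])
      right_inv := fun c => Subtype.ext (by
        show e ⟨(e.symm c.1 : G), _⟩ = c.1
        exact e.apply_symm_apply c.1) }

/-! ### The Sylow subgroup -/

variable [Finite G]

omit ht [Finite G] in
/-- The subgroup `⟨t⟩ × V`. -/
def syl : Subgroup G :=
  (((⊤ : Subgroup (Multiplicative (ZMod 2))).prod four).map e.symm.toMonoidHom).map
    (Subgroup.centralizer ({t} : Set G)).subtype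

theorem mem_syl {x : G} : x ∈ syl e ↔ ∃ v ∈ four, x = psi e v ∨ x = t * psi e v := by
  constructor
  · rintro ⟨_, ⟨⟨z, v⟩, ⟨-, hv⟩, rfl⟩, rfl⟩
    refine ⟨v, hv, ?_⟩
    obtain ⟨b, hb⟩ := eq_psi_or e ht (e.symm (z, v)).2
    have : b = v := by
      rcases hb with hb | hb
      · have h : e.symm (z, v) = ⟨psi e b, psi_mem e b⟩ := Subtype.ext hb
        have := congrArg e h
        rw [e.apply_symm_apply, e_psi] at this
        exact (congrArg Prod.snd this).symm
      · have h : e.symm (z, v) = ⟨t * psi e b, mul_mem t_mem (psi_mem e b)⟩ := Subtype.ext hb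
        have := congrArg e h
        rw [e.apply_symm_apply, e_t_psi e ht] at this
        simpa [zed] using (congrArg Prod.snd this).symm
    exact this ▸ hb
  · rintro ⟨v, hv, rfl | rfl⟩
    · exact ⟨_, ⟨(1, v), ⟨trivial, hv⟩, rfl⟩, rfl⟩
    · refine ⟨_, ⟨(zed * (1, v)), ⟨trivial, by simpa [zed] using hv⟩, rfl⟩, ?_⟩
      show ((e.symm (zed * (1, v)) : ↥(Subgroup.centralizer ({t} : Set G))) : G) = t * psi e v
      rw [← e_t_psi e ht, e.symm_apply_apply]

omit ht in
theorem card_syl : Nat.card ↥(syl e) = 8 := by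
  rw [syl, Subgroup.card_map_of_injective (Subgroup.subtype_injective _),
    Subgroup.card_map_of_injective e.symm.injective, Nat.card_congr (Subgroup.prodEquiv _ _).toEquiv,
    Nat.card_prod, Subgroup.card_top, card_four, Nat.card_eq_fintype_card]
  rfl

theorem syl_comm {x y : G} (hx : x ∈ syl e) (hy : y ∈ syl e) : x * y = y * x := by
  have hv : ∀ a b, a ∈ four → b ∈ four → Commute (psi e a) (psi e b) := by
    intro a b ha hb
    refine Commute.map ?_ (psi e)
    rcases ha with rfl | rfl | rfl | rfl <;> rcases hb with rfl | rfl | rfl | rfl <;> unfold Commute SemiconjBy <;>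
      decide +kernel
  have hc : ∀ a, Commute t (psi e a) := fun a => (psi_comm e a).symm
  obtain ⟨a, ha, rfl | rfl⟩ := (mem_syl e ht).1 hx <;> obtain ⟨b, hb, rfl | rfl⟩ := (mem_syl e ht).1 hy
  · exact hv a b ha hb
  · exact (hc a).symm.mul_right (hv a b ha hb)
  · exact (hc b).mul_left (hv a b ha hb)
  · exact ((Commute.refl t).mul_right (hc b)).mul_left ((hc a).symm.mul_right (hv a b ha hb))

variable (hP : ∃ P : Sylow 2 G, t ∈ P ∧ ∀ x ∈ P, x * t = t * x)
include hP

theorem exists_sylow : ∃ S : Sylow 2 G, (S : Subgroup G) = syl e := by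
  haveI : Fact (Nat.Prime 2) := ⟨Nat.prime_two⟩
  obtain ⟨P, -, hPc⟩ := hP
  have hle : (P : Subgroup G) ≤ Subgroup.centralizer ({t} : Set G) := fun x hx =>
    Subgroup.mem_centralizer_singleton_iff.2 (hPc x hx)
  have h120 := Subgroup.card_dvd_of_le hle
  rw [card_centralizer e, P.card_eq_multiplicity] at h120
  have h3 : 3 ≤ (Nat.card G).factorization 2 := by
    rw [← Nat.Prime.pow_dvd_iff_le_factorization Nat.prime_two Nat.card_pos.ne']
    exact (show (2 : ℕ) ^ 3 = Nat.card ↥(syl e) from (card_syl e).symm) ▸ Subgroup.card_subgroup_dvd_card _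
  have h4 : (Nat.card G).factorization 2 ≤ 3 := by
    by_contra h
    exact absurd ((pow_dvd_pow 2 (show 4 ≤ (Nat.card G).factorization 2 by omega)).trans h120) (by norm_num)
  exact ⟨Sylow.ofCard (syl e) (by rw [card_syl e, le_antisymm h4 h3]; rfl), rfl⟩

theorem card_mod : Nat.card G % 240 = 120 := by
  haveI : Fact (Nat.Prime 2) := ⟨Nat.prime_two⟩
  have h1 : 120 ∣ Nat.card G := card_centralizer e ▸ Subgroup.card_subgroup_dvd_card _
  obtain ⟨S, hS⟩ := exists_sylow e ht hP
  have h2 : ¬ 16 ∣ Nat.card G := by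
    intro h
    have := S.card_eq_multiplicity
    rw [hS, card_syl e] at this
    have h3 : 3 = (Nat.card G).factorization 2 := Nat.pow_right_injective (le_refl 2) (show 2 ^ 3 = 2 ^ _ from (show (2 : ℕ) ^ 3 = 8 by norm_num).trans this)
    have : 4 ≤ (Nat.card G).factorization 2 :=
      (Nat.Prime.pow_dvd_iff_le_factorization Nat.prime_two Nat.card_pos.ne').1 h
    omega
  obtain ⟨k, hk⟩ := h1
  rw [hk] at h2 ⊢
  rcases Nat.even_or_odd k with ⟨j, rfl⟩ | ⟨j, rfl⟩
  · exact absurd ⟨15 * j, by ring⟩ h2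
  · omega

variable [IsSimpleGroup G]

omit hP in
theorem exists_not_comm : ∃ a b : G, a * b ≠ b * a :=
  ⟨psi e g3, psi e g5, fun h => by
    rw [← map_mul, ← map_mul] at h
    exact absurd (psi_injective e h) (by decide +kernel)⟩

theorem not_isolated : ¬ Cfsg.IsIsolatedInvolution t := by
  intro hiso
  have h := Cfsg.Agent.Lib.ZStar.Consequences.isolated_commutator_mem
    Cfsg.Agent.Lib.ZStar.StronglyClosed.involutionThm hiso
  set O := Cfsg.oddCore G with hO
  haveI hOn : O.Normal := by rw [hO]; unfold Cfsg.oddCore; infer_instance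
  rcases IsSimpleGroup.eq_bot_or_eq_top_of_normal O hOn with hb | htop
  · have hc : t ∈ Subgroup.center G := by
      rw [Subgroup.mem_center_iff]
      intro g
      have := h g
      rw [hb, Subgroup.mem_bot, mul_inv_eq_one, mul_inv_eq_iff_eq_mul] at this
      exact this.symm
    rcases IsSimpleGroup.eq_bot_or_eq_top_of_normal (Subgroup.center G) inferInstance with hb' | htop'
    · exact t_ne_one ht (Subgroup.mem_bot.1 (hb' ▸ hc))
    · obtain ⟨a, b, hab⟩ := exists_not_comm e ht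
      exact hab ((Subgroup.mem_center_iff.1 (htop' ▸ Subgroup.mem_top b)) a)
  · have hodd : Odd (Nat.card O) := Cfsg.Agent.Lib.ZStar.Elements.oddCore_odd
    rw [htop, Subgroup.card_top] at hodd
    have := card_mod e ht hP
    rw [Nat.odd_iff] at hodd
    omega

omit [IsSimpleGroup G] in
/-- Every involution is conjugate to `t`, to `s` or to `t * s`. -/
theorem isConj_cases {u : G} (hu : orderOf u = 2) :
    IsConj u t ∨ IsConj u (psi e s0) ∨ IsConj u (t * psi e s0) := by
  haveI : Fact (Nat.Prime 2) := ⟨Nat.prime_two⟩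
  obtain ⟨S, hS⟩ := exists_sylow e ht hP
  have hp : IsPGroup 2 (Subgroup.zpowers u) :=
    IsPGroup.of_card (n := 1) (by rw [Nat.card_zpowers, hu, pow_one])
  obtain ⟨Q, hQ⟩ := hp.exists_le_sylow
  obtain ⟨g, hg⟩ := MulAction.exists_smul_eq G Q S
  have hmem : g * u * g⁻¹ ∈ syl e := by
    rw [← hS, ← hg, Sylow.coe_subgroup_smul]
    exact ⟨u, hQ (Subgroup.mem_zpowers _), rfl⟩
  have hcu : IsConj u (g * u * g⁻¹) := isConj_iff.2 ⟨g, rfl⟩
  have h1 : g * u * g⁻¹ ≠ 1 := fun h => by
    rw [conj_eq_one_iff] at h; rw [h, orderOf_one] at hu; norm_num at hu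
  obtain ⟨v, hv, hx | hx⟩ := (mem_syl e ht).1 hmem
  · obtain ⟨a, ha⟩ := involution_conj v (by rcases hv with rfl | rfl | rfl | rfl <;> decide +kernel)
      (fun h => h1 (by rw [hx, h, map_one]))
    exact Or.inr (Or.inl (hcu.trans (isConj_iff.2 ⟨psi e a, by rw [hx, conj_psi, ha]⟩)))
  · by_cases hv1 : v = 1
    · rw [hv1, map_one, mul_one] at hx
      exact Or.inl (hx ▸ hcu)
    obtain ⟨a, ha⟩ := involution_conj v (by rcases hv with rfl | rfl | rfl | rfl <;> decide +kernel) hv1
    exact Or.inr (Or.inr (hcu.trans (isConj_iff.2 ⟨psi e a, by rw [hx, conj_t_psi, ha]⟩)))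

/-- All involutions are conjugate. -/
theorem isConj_t {u : G} (hu : orderOf u = 2) : IsConj t u := by
  haveI : Fact (Nat.Prime 2) := ⟨Nat.prime_two⟩
  obtain ⟨S, hS⟩ := exists_sylow e ht hP
  haveI : IsMulCommutative ↥(S : Subgroup G) := ⟨⟨fun x y => Subtype.ext (syl_comm e ht
    (hS ▸ x.2) (hS ▸ y.2))⟩⟩
  suffices h : IsConj t (psi e s0) ∧ IsConj t (t * psi e s0) by
    rcases isConj_cases e ht hP hu with h' | h' | h'
    exacts [h'.symm, h.1.trans h'.symm, h.2.trans h'.symm]
  set N := Subgroup.normalizer ((S : Subgroup G) : Set G) with hN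
  letI : MulAction ↥N G := MulAction.compHom G ((MulAut.conj : G →* MulAut G).comp N.subtype)
  have hsmul : ∀ (n : ↥N) (x : G), n • x = (n : G) * x * (n : G)⁻¹ := fun _ _ => rfl
  have htS : t ∈ (S : Subgroup G) := hS ▸ (mem_syl e ht).2 ⟨1, one_mem _, Or.inr (by simp)⟩
  have hψN : psi e g3 ∈ N := by
    rw [hN, hS]
    have hz : ∀ x, x ∈ syl e → psi e g3 * x * (psi e g3)⁻¹ ∈ syl e := by
      intro x hx
      obtain ⟨v, hv, rfl | rfl⟩ := (mem_syl e ht).1 hx
      · exact (mem_syl e ht).2 ⟨_, g3_normalizes v hv, Or.inl (conj_psi e _ _)⟩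
      · exact (mem_syl e ht).2 ⟨_, g3_normalizes v hv, Or.inr (conj_t_psi e _ _)⟩
    rw [Subgroup.mem_normalizer_iff]
    refine fun x => ⟨hz x, fun hx => ?_⟩
    have h3 := hz _ (hz _ hx)
    have he : psi e g3 * (psi e g3 * (psi e g3 * x * (psi e g3)⁻¹) * (psi e g3)⁻¹) * (psi e g3)⁻¹ =
        psi e (g3 ^ 3) * x * (psi e (g3 ^ 3))⁻¹ := by rw [map_pow, pow_three]; group
    rw [he, g3_pow, map_one, one_mul, inv_one, mul_one] at h3
    exact h3
  set O := MulAction.orbit ↥N t with hO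
  -- the orbit has odd cardinality
  have hodd : ¬ 2 ∣ O.ncard := by
    intro h2
    rw [hO, ← MulAction.index_stabilizer] at h2
    have hle : (S : Subgroup G).subgroupOf N ≤ MulAction.stabilizer ↥N t := by
      intro x hx
      have hx' : (x : G) ∈ syl e := hS ▸ Subgroup.mem_subgroupOf.1 hx
      rw [MulAction.mem_stabilizer_iff, hsmul, syl_comm e ht hx' (hS ▸ htS : t ∈ syl e), mul_inv_cancel_right]
    have h3 := h2.trans (Subgroup.index_dvd_of_le hle)
    have h4 : 2 * 8 ∣ Nat.card G := by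
      refine dvd_trans ?_ (Subgroup.card_subgroup_dvd_card N)
      rw [← Subgroup.card_mul_index ((S : Subgroup G).subgroupOf N),
        Nat.card_congr (Subgroup.subgroupOfEquivOfLe (Subgroup.le_normalizer)).toEquiv, hS, card_syl e, mul_comm 2]
      rw [← hS]
      exact Nat.mul_dvd_mul_left 8 h3
    have := card_mod e ht hP
    omega
  -- its elements
  have hOS : ∀ x ∈ O, x ∈ syl e ∧ x ≠ 1 ∧ IsConj t x := by
    rintro x ⟨n, rfl⟩
    show n • t ∈ syl e ∧ n • t ≠ 1 ∧ IsConj t (n • t)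
    rw [hsmul]
    exact ⟨hS ▸ (Subgroup.mem_normalizer_iff.1 n.2 t).1 htS, fun h => t_ne_one ht (conj_eq_one_iff.1 h),
      isConj_iff.2 ⟨n, rfl⟩⟩
  have hclosed : ∀ x ∈ O, psi e g3 * x * (psi e g3)⁻¹ ∈ O := by
    rintro x ⟨n, rfl⟩
    exact ⟨⟨psi e g3, hψN⟩ * n, mul_smul _ _ _⟩
  have hclass : ∀ v, (v = s0 ∨ v = s1 ∨ v = s0 * s1) → ∀ v', (v' = s0 ∨ v' = s1 ∨ v' = s0 * s1) →
      (psi e v ∈ O → psi e v' ∈ O) ∧ (t * psi e v ∈ O → t * psi e v' ∈ O) := by
    intro v hv v' hv'
    have h2 : g3 * (g3 * v * g3⁻¹) * g3⁻¹ = g3 * g3 * v * (g3 * g3)⁻¹ := by group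
    constructor <;> intro hmem <;> rcases four_trans v v' hv hv' with h | h | h <;> subst h
    · exact hmem
    · exact conj_psi e g3 v ▸ hclosed _ hmem
    · have := hclosed _ (hclosed _ hmem)
      rwa [conj_psi, conj_psi, h2] at this
    · exact hmem
    · exact conj_t_psi e g3 v ▸ hclosed _ hmem
    · have := hclosed _ (hclosed _ hmem)
      rwa [conj_t_psi, conj_t_psi, h2] at this
  have htO : t ∈ O := MulAction.mem_orbit_self t
  have h01 : s0 ≠ s1 ∧ s0 ≠ s0 * s1 ∧ s1 ≠ s0 * s1 ∧ s0 ≠ 1 ∧ s1 ≠ 1 ∧ s0 * s1 ≠ 1 := by decide +kernel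
  -- membership in the orbit by type
  have hsub : ∀ x ∈ O, x = t ∨ (∃ v, (v = s0 ∨ v = s1 ∨ v = s0 * s1) ∧ x = psi e v) ∨
      (∃ v, (v = s0 ∨ v = s1 ∨ v = s0 * s1) ∧ x = t * psi e v) := by
    intro x hx
    obtain ⟨hxs, hx1, -⟩ := hOS x hx
    obtain ⟨v, hv, rfl | rfl⟩ := (mem_syl e ht).1 hxs
    · rcases hv with rfl | hv
      · exact absurd (map_one _) hx1
      · exact Or.inr (Or.inl ⟨v, hv, rfl⟩)
    · rcases hv with rfl | hv
      · exact Or.inl (by rw [map_one, mul_one])
      · exact Or.inr (Or.inr ⟨v, hv, rfl⟩)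
  have hcard : ∀ f : alternatingGroup (Fin 5) → G, Function.Injective f → (∀ v, v ≠ 1 → f v ≠ t) →
      ({t, f s0, f s1, f (s0 * s1)} : Set G).ncard = 4 := by
    intro f hf hne
    rw [Set.ncard_insert_of_notMem ?_ (Set.toFinite _), Set.ncard_insert_of_notMem ?_ (Set.toFinite _),
      Set.ncard_pair (hf.ne h01.2.2.1)]
    · simp [hf.ne h01.1, hf.ne h01.2.1]
    · simp [(hne s0 h01.2.2.2.1).symm, (hne s1 h01.2.2.2.2.1).symm, (hne _ h01.2.2.2.2.2).symm]
  by_cases hA : psi e s0 ∈ O <;> by_cases hB : t * psi e s0 ∈ O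
  · exact ⟨(hOS _ hA).2.2, (hOS _ hB).2.2⟩
  · refine absurd ?_ hodd
    have hO4 : O = {t, psi e s0, psi e s1, psi e (s0 * s1)} := by
      ext x
      simp only [Set.mem_insert_iff, Set.mem_singleton_iff]
      constructor
      · intro hx
        rcases hsub x hx with rfl | ⟨v, hv, rfl⟩ | ⟨v, hv, rfl⟩
        · exact Or.inl rfl
        · rcases hv with rfl | rfl | rfl <;> simp
        · exact absurd ((hclass v hv s0 (Or.inl rfl)).2 hx) hB
      · rintro (rfl | rfl | rfl | rfl)
        exacts [htO, hA, (hclass s0 (Or.inl rfl) s1 (Or.inr (Or.inl rfl))).1 hA,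
          (hclass s0 (Or.inl rfl) _ (Or.inr (Or.inr rfl))).1 hA]
    rw [hO4, hcard _ (psi_injective e) (fun v _ => psi_ne_t e ht v)]
    norm_num
  · refine absurd ?_ hodd
    have hO4 : O = {t, t * psi e s0, t * psi e s1, t * psi e (s0 * s1)} := by
      ext x
      simp only [Set.mem_insert_iff, Set.mem_singleton_iff]
      constructor
      · intro hx
        rcases hsub x hx with rfl | ⟨v, hv, rfl⟩ | ⟨v, hv, rfl⟩
        · exact Or.inl rfl
        · exact absurd ((hclass v hv s0 (Or.inl rfl)).1 hx) hA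
        · rcases hv with rfl | rfl | rfl <;> simp
      · rintro (rfl | rfl | rfl | rfl)
        exacts [htO, hB, (hclass s0 (Or.inl rfl) s1 (Or.inr (Or.inl rfl))).2 hB,
          (hclass s0 (Or.inl rfl) _ (Or.inr (Or.inr rfl))).2 hB]
    rw [hO4, hcard (fun v => t * psi e v) (fun a b h => psi_injective e (mul_left_cancel h))
      (fun v hv h => hv (psi_injective e (by rw [map_one]; exact mul_eq_left.1 h)))]
    norm_num
  · exfalso
    refine not_isolated e ht hP ⟨ht, fun g hg => ?_⟩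
    -- a conjugate of `t` commuting with `t` is `t`
    have hxC : g * t * g⁻¹ ∈ Subgroup.centralizer ({t} : Set G) :=
      Subgroup.mem_centralizer_singleton_iff.2 hg.symm
    have hxx : g * t * g⁻¹ * (g * t * g⁻¹) = 1 := by
      rw [show g * t * g⁻¹ * (g * t * g⁻¹) = g * (t * t) * g⁻¹ by group, t_mul_self ht]; group
    -- move it into the Sylow subgroup
    have hfus : ∀ y, y ∈ syl e → IsConj t y → y ∈ O := by
      intro y hy hc
      obtain ⟨c, hc⟩ := isConj_iff.1 hc
      obtain ⟨n, hn, he⟩ := Sylow.conj_eq_normalizer_conj_of_mem S t c⁻¹ htS (by rw [inv_inv, hc]; show y ∈ (S : Subgroup G); rw [hS]; exact hy)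
      rw [inv_inv, hc] at he
      refine ⟨⟨n⁻¹, inv_mem hn⟩, ?_⟩
      show n⁻¹ * t * n⁻¹⁻¹ = y
      rw [inv_inv, he]
    obtain ⟨b, hb⟩ := eq_psi_or e ht hxC
    have hbb : b * b = 1 := by
      refine psi_injective e ?_
      rw [map_mul, map_one]
      rcases hb with hb | hb <;> rw [hb] at hxx
      · exact hxx
      · rwa [show t * psi e b * (t * psi e b) = t * (psi e b * t) * psi e b by group, psi_comm,
          ← mul_assoc t t, t_mul_self ht, one_mul] at hxx
    by_cases hb1 : b = 1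
    · subst hb1
      rcases hb with hb | hb <;> simp only [map_one, mul_one] at hb
      · exact absurd (conj_eq_one_iff.1 hb) (t_ne_one ht)
      · exact hb
    obtain ⟨a, ha⟩ := involution_conj b hbb hb1
    have hc1 : IsConj t (g * t * g⁻¹) := isConj_iff.2 ⟨g, rfl⟩
    rcases hb with hb | hb
    · refine absurd (hfus _ ((mem_syl e ht).2 ⟨s0, Or.inr (Or.inl rfl), Or.inl rfl⟩)
        (hc1.trans (isConj_iff.2 ⟨psi e a, ?_⟩))) hA
      rw [hb, conj_psi, ha]
    · refine absurd (hfus _ ((mem_syl e ht).2 ⟨s0, Or.inr (Or.inl rfl), Or.inr rfl⟩)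
        (hc1.trans (isConj_iff.2 ⟨psi e a, ?_⟩))) hB
      rw [hb, conj_t_psi, ha]

omit hP in
theorem no_linear (χ : G →* ℂˣ) (g : G) : χ g = 1 := by
  rcases IsSimpleGroup.eq_bot_or_eq_top_of_normal χ.ker inferInstance with hb | htop
  · obtain ⟨a, b, hab⟩ := exists_not_comm e ht
    exact absurd ((MonoidHom.ker_eq_bot_iff χ).1 hb (by rw [map_mul, map_mul, mul_comm])) hab
  · exact MonoidHom.mem_ker.1 (htop ▸ Subgroup.mem_top g)

end Cfsg.Agent.Lib.J1Order.Structure
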