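/-
Character values of a simple group with a 2-central involution whose centraliser is `2 × A₅` on
the elements centralised by that involution, and its order.
-/
import Cfsg.Agent.Lib.J1Order.Structure
import Cfsg.Agent.Lib.J1Order.Eigen
import Cfsg.Agent.Lib.J1Order.Rows
import Cfsg.Agent.Lib.H80.ClassMult
import Cfsg.Agent.Lib.BC77.PConj

set_option autoImplicit false

namespace Cfsg.Agent.Lib.J1Order.Values

open Cfsg.Agent.Lib.Characters.Basic Cfsg.Agent.Lib.Characters.Complete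
open Cfsg.Agent.Lib.J1Order Cfsg.Agent.Lib.J1Order.Structure Cfsg.Agent.Lib.J1Order.Eigen
open scoped ComplexConjugate

universe u

/-- The four representatives of odd order. -/
def rep4 : Fin 4 → alternatingGroup (Fin 5) := ![1, g3, g5, g5 * g5]

theorem rep4_pow : ∀ k, rep4 k ^ 15 = 1 := by decide +kernel

theorem rep4_inj : ∀ k l, IsConj (rep4 k) (rep4 l) → k = l := by
  simp only [isConj_iff]; decide +kernel

theorem rep4_real : ∀ k, ∃ a, a * rep4 k * a⁻¹ = (rep4 k)⁻¹ := by decide +kernel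

theorem rep4_cent : ∀ k, Fintype.card {a : alternatingGroup (Fin 5) // a * rep4 k = rep4 k * a} =
    ![60, 3, 5, 5] k := by
  decide +kernel

theorem rep4_pairs : ∀ k, Fintype.card {c : Model // Pair (zed * (1, rep4 k)) c} = ![30, 6, 10, 10] k := by
  intro k
  fin_cases k
  exacts [card_pairs_one, card_pairs_three, card_pairs_five, card_pairs_five']

/-- Representatives of the five classes. -/
def rep5 : Fin 5 → alternatingGroup (Fin 5) := ![1, s0, g3, g5, g5 * g5]

/-- The class of an element. -/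
def kind (b : alternatingGroup (Fin 5)) : Fin 5 :=
  if b = 1 then 0 else if b * b = 1 then 1 else if b * b * b = 1 then 2
    else if ∃ a : alternatingGroup (Fin 5), a * b * a⁻¹ = g5 then 3 else 4

theorem kind_spec : ∀ b, ∃ a, a * rep5 (kind b) * a⁻¹ = b := by decide +kernel

theorem sum_classes (F : alternatingGroup (Fin 5) → ℂ) (hF : ∀ a b, F (a * b * a⁻¹) = F b)
    (p : alternatingGroup (Fin 5) → Prop) [DecidablePred p] :
    ∑ h ∈ Finset.univ.filter p, F h =
      ∑ k : Fin 5, ((Finset.univ.filter fun h => p h ∧ kind h = k).card : ℂ) * F (rep5 k) := by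
  rw [← Finset.sum_fiberwise (Finset.univ.filter p) kind]
  refine Finset.sum_congr rfl fun k _ => ?_
  rw [Finset.filter_filter, ← nsmul_eq_mul, ← Finset.sum_const]
  refine Finset.sum_congr rfl fun h hh => ?_
  obtain ⟨a, ha⟩ := kind_spec h
  rw [(Finset.mem_filter.1 hh).2.2] at ha
  rw [← ha, hF]

/-- The stabiliser of a point. -/
def alt4 : Subgroup (alternatingGroup (Fin 5)) where
  carrier := {b | (b : Equiv.Perm (Fin 5)) 4 = 4}
  one_mem' := rfl
  mul_mem' := by
    intro a b ha hb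
    simp only [Set.mem_setOf_eq] at *
    rw [Subgroup.coe_mul, Equiv.Perm.mul_apply, hb, ha]
  inv_mem' := by
    intro a ha
    simp only [Set.mem_setOf_eq] at *
    rw [Subgroup.coe_inv, Equiv.Perm.inv_eq_iff_eq, ha]

theorem four_le_alt4 : four ≤ alt4 := by
  intro b hb
  rcases hb with rfl | rfl | rfl | rfl <;> show _ = (4 : Fin 5) <;> decide

theorem counts_four : ∀ k, (Finset.univ.filter fun h : alternatingGroup (Fin 5) =>
    (h = 1 ∨ h = s0 ∨ h = s1 ∨ h = s0 * s1) ∧ kind h = k).card = ![1, 3, 0, 0, 0] k := by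
  decide +kernel

theorem counts_alt4 : ∀ k, (Finset.univ.filter fun h : alternatingGroup (Fin 5) =>
    (h : Equiv.Perm (Fin 5)) 4 = 4 ∧ kind h = k).card = ![1, 3, 8, 0, 0] k := by
  decide +kernel

theorem counts_top : ∀ k, (Finset.univ.filter fun h : alternatingGroup (Fin 5) =>
    True ∧ kind h = k).card = ![1, 15, 20, 12, 12] k := by
  decide +kernel

/-- The coefficient rows. -/
noncomputable def La : Fin 4 → ℂ := ![1 / 5, 0, 2 / 5, 2 / 5]
/-- The coefficient rows. -/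
noncomputable def Lb : Fin 4 → ℂ :=
  ![2 / 15, -1 / 3, 1 / 10 + (beta - beta') / 10, 1 / 10 - (beta - beta') / 10]
/-- The coefficient rows. -/
noncomputable def Lb' : Fin 4 → ℂ :=
  ![2 / 15, -1 / 3, 1 / 10 - (beta - beta') / 10, 1 / 10 + (beta - beta') / 10]
/-- The coefficient rows. -/
noncomputable def Lc : Fin 4 → ℂ := ![1 / 15, 1 / 3, -1 / 5, -1 / 5]
/-- The coefficient rows. -/
noncomputable def Lw : Fin 4 → ℂ := ![1 / 15, -2 / 3, -1 / 5, -1 / 5]

variable {G : Type u} [Group G] {t : G} (e : ↥(Subgroup.centralizer ({t} : Set G)) ≃* Model)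

/-- The elements `t * y`. -/
def el (k : Fin 4) : G := t * psi e (rep4 k)

theorem el_zero : el e 0 = t := by
  show t * psi e 1 = t
  rw [map_one, mul_one]

/-- The embedding of `⟨t⟩ × H`. -/
def emb (H : Subgroup (alternatingGroup (Fin 5))) : Multiplicative (ZMod 2) × ↥H →* G :=
  (Subgroup.centralizer ({t} : Set G)).subtype.comp
    (e.symm.toMonoidHom.comp ((MonoidHom.id (Multiplicative (ZMod 2))).prodMap H.subtype))

theorem emb_mono {H K : Subgroup (alternatingGroup (Fin 5))} (h : H ≤ K) :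
    (emb e H).range ≤ (emb e K).range := by
  rintro _ ⟨⟨z, x⟩, rfl⟩
  exact ⟨(z, ⟨x.1, h x.2⟩), rfl⟩

theorem emb_injective (H : Subgroup (alternatingGroup (Fin 5))) : Function.Injective (emb e H) := by
  intro x y h
  have h' := e.symm.injective (Subtype.ext h :
    e.symm ((MonoidHom.id (Multiplicative (ZMod 2))).prodMap H.subtype x) =
      e.symm ((MonoidHom.id (Multiplicative (ZMod 2))).prodMap H.subtype y))
  have h1 : x.1 = y.1 := by simpa using congrArg Prod.fst h'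
  have h2 : x.2.1 = y.2.1 := by simpa using congrArg Prod.snd h'
  exact Prod.ext h1 (Subtype.ext h2)

/-- The coefficients of a character on the elements `t * y`. -/
def Coeff (χ : G → ℂ) (a b b' c : ℤ) : Prop :=
  χ (el e 0) = a + 2 * b + 2 * b' + 4 * c ∧ χ (el e 1) = a - b - b' + c ∧
    χ (el e 2) = a + b * beta + b' * beta' - c ∧ χ (el e 3) = a + b * beta' + b' * beta - c

theorem coeff_unique {χ : G → ℂ} {a b b' c a₁ b₁ b₁' c₁ : ℤ} (h : Coeff e χ a b b' c)
    (h' : Coeff e χ a₁ b₁ b₁' c₁) : a = a₁ ∧ b = b₁ ∧ b' = b₁' ∧ c = c₁ := by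
  obtain ⟨h0, h1, h2, -⟩ := h
  obtain ⟨k0, k1, k2, -⟩ := h'
  have q : (((a - a₁) - (c - c₁) - (b' - b₁') : ℤ) : ℂ) + (((b - b₁) - (b' - b₁') : ℤ) : ℂ) * beta = 0 := by
    push_cast
    linear_combination h2.symm.trans k2 + ((b₁' : ℂ) - b') * beta_add
  obtain ⟨q1, q2⟩ := int_lin q
  have e0 : a + 2 * b + 2 * b' + 4 * c = a₁ + 2 * b₁ + 2 * b₁' + 4 * c₁ := by
    exact_mod_cast h0.symm.trans k0
  have e1 : a - b - b' + c = a₁ - b₁ - b₁' + c₁ := by exact_mod_cast h1.symm.trans k1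
  omega

variable (ht : orderOf t = 2)
include ht

theorem el_pow_fifteen (k : Fin 4) : el e k ^ 15 = t :=
  t_psi_pow_odd e ht (by decide) (rep4_pow k)

theorem el_real (k : Fin 4) : IsConj (el e k) (el e k)⁻¹ := by
  obtain ⟨a, ha⟩ := rep4_real k
  refine isConj_iff.2 ⟨psi e a, ?_⟩
  rw [el, conj_t_psi, ha, mul_inv_rev, t_inv ht, ← map_inv, psi_comm]

theorem el_pow_ten : el e 2 ^ 10 = 1 ∧ el e 2 ^ 5 = t ∧ el e 2 ^ 7 = el e 3 ∧ el e 2 ^ 6 = psi e g5 ∧
    el e 2 ^ 2 = psi e (g5 * g5) ∧ el e 3 ^ 7 = (el e 2)⁻¹ := by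
  have htt := t_mul_self ht
  have hpow : ∀ k, t ^ k = t ^ (k % 2) := fun k => pow_eq_pow_mod k (by rw [pow_two, htt])
  have h : ∀ (b : alternatingGroup (Fin 5)) k, (t * psi e b) ^ k = t ^ (k % 2) * psi e (b ^ k) := fun b k => by
    rw [t_psi_pow e b k, ← hpow]
  simp only [el, rep4, Matrix.cons_val, h, mul_inv_rev, t_inv ht, ← map_inv, psi_comm]
  have d : g5 ^ 10 = 1 ∧ g5 ^ 5 = 1 ∧ g5 ^ 7 = g5 * g5 ∧ g5 ^ 6 = g5 ∧ g5 ^ 2 = g5 * g5 ∧
      (g5 * g5) ^ 7 = g5⁻¹ := by decide +kernel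
  simp [d.1, d.2.1, d.2.2.1, d.2.2.2.1, d.2.2.2.2.1, d.2.2.2.2.2]

theorem el_pow_six : el e 1 ^ 6 = 1 ∧ el e 1 ^ 3 = t := by
  have htt := t_mul_self ht
  have hpow : ∀ k, t ^ k = t ^ (k % 2) := fun k => pow_eq_pow_mod k (by rw [pow_two, htt])
  have h : ∀ (b : alternatingGroup (Fin 5)) k, (t * psi e b) ^ k = t ^ (k % 2) * psi e (b ^ k) := fun b k => by
    rw [t_psi_pow e b k, ← hpow]
  simp only [el, rep4, Matrix.cons_val, h]
  have d : g3 ^ 6 = 1 ∧ g3 ^ 3 = 1 := by decide +kernel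
  simp [d.1, d.2]

/-- The expansion of a character on the four classes. -/
theorem exists_coeff (χ : Cfsg.IrrCharacter G) : ∃ a b b' c : ℤ, Coeff e (χ : G → ℂ) a b b' c := by
  obtain ⟨h10, h5, h7, -, -, -⟩ := el_pow_ten e ht
  obtain ⟨h6, h3⟩ := el_pow_six e ht
  obtain ⟨N0, N1, N2, M0, M1, M2, vt, vP, vQ, -, -, -, -⟩ := values_ten χ h10 (el_real e ht 2)
  obtain ⟨U0, U1, wt, wU⟩ := values_six χ h6 (el_real e ht 1)
  rw [h5] at vt
  rw [h7] at vQ
  rw [h3] at wt
  have hT : N0 + 2 * N1 + 2 * N2 = U0 + 2 * U1 := by exact_mod_cast vt.symm.trans wt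
  have hT' : (N0 : ℂ) + 2 * N1 + 2 * N2 = (U0 : ℂ) + 2 * U1 := by exact_mod_cast hT
  refine ⟨N0, U1 - N2, U1 - N1, N1 + N2 - U1, ?_, ?_, ?_, ?_⟩
  · rw [el_zero, vt]; push_cast; ring
  · rw [wU]; push_cast; linear_combination -hT'
  · rw [vP]; push_cast
    linear_combination ((N1 : ℂ) + N2 - U1) * beta_add
  · rw [vQ]; push_cast
    linear_combination ((N1 : ℂ) + N2 - U1) * beta_add

/-- Sums over `⟨t⟩ × H`. -/
theorem sum_emb [Fintype G] (χ : Cfsg.IrrCharacter G) (H : Subgroup (alternatingGroup (Fin 5)))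
    (p : alternatingGroup (Fin 5) → Prop) [DecidablePred p] (hp : ∀ h, p h ↔ h ∈ H)
    [Fintype ↥(emb e H).range] :
    ∑ u : ↥(emb e H).range, (χ : G → ℂ) u = ∑ k : Fin 5,
      ((Finset.univ.filter fun h => p h ∧ kind h = k).card : ℂ) *
        ((χ : G → ℂ) (psi e (rep5 k)) + (χ : G → ℂ) (t * psi e (rep5 k))) := by
  classical
  rw [← sum_classes (fun h => (χ : G → ℂ) (psi e h) + (χ : G → ℂ) (t * psi e h)) ?_ p]
  · rw [← Fintype.sum_equiv (MonoidHom.ofInjective (emb_injective e H)).toEquiv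
      (fun x => (χ : G → ℂ) (emb e H x)) _ (fun x => rfl), Fintype.sum_prod_type]
    have huniv : (Finset.univ : Finset (Multiplicative (ZMod 2))) = {1, Multiplicative.ofAdd 1} := by decide
    rw [huniv, Finset.sum_pair (by decide), ← Finset.sum_add_distrib,
      Finset.sum_subtype (p := (· ∈ H)) (Finset.univ.filter p) (fun h => by simp [hp])]
    refine Finset.sum_congr rfl fun h _ => ?_
    congr 1
    refine congrArg (χ : G → ℂ) ?_
    show ((e.symm (Multiplicative.ofAdd 1, (h : alternatingGroup (Fin 5))) :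
      ↥(Subgroup.centralizer ({t} : Set G))) : G) = t * psi e h
    rw [show ((Multiplicative.ofAdd 1, (h : alternatingGroup (Fin 5))) : Model) = zed * (1, (h : alternatingGroup (Fin 5))) by
      simp [zed], ← e_t_psi e ht, e.symm_apply_apply]
  · intro a b
    show (χ : G → ℂ) (psi e (a * b * a⁻¹)) + (χ : G → ℂ) (t * psi e (a * b * a⁻¹)) = _
    rw [← conj_t_psi e, ← conj_psi e, isClassFunction_irr χ _ _, isClassFunction_irr χ _ _]

variable [Finite G]

theorem card_el (k : Fin 4) :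
    Nat.card ↥(Subgroup.centralizer ({el e k} : Set G)) = ![120, 6, 10, 10] k := by
  rw [el, card_centralizer_t_psi e ht (by decide : Odd 15) (rep4_pow k), Nat.card_eq_fintype_card, rep4_cent]
  fin_cases k <;> rfl

theorem val_inv (χ : Cfsg.IrrCharacter G) (k : Fin 4) :
    (χ : G → ℂ) (el e k)⁻¹ = (χ : G → ℂ) (el e k) :=
  (classFunction_apply_of_isConj (isClassFunction_irr χ) (el_real e ht k)).symm

theorem el_not_conj_one (k : Fin 4) : el e k ≠ 1 := fun h => by
  have := el_pow_fifteen e ht k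
  rw [h, one_pow] at this
  exact t_ne_one ht this.symm

variable [Fintype (Cfsg.IrrCharacter G)]

theorem orth (L M : Fin 4 → ℂ) :
    ∑ χ : Cfsg.IrrCharacter G, (∑ k, L k * (χ : G → ℂ) (el e k)) * (∑ k, M k * (χ : G → ℂ) (el e k)) =
      120 * L 0 * M 0 + 6 * L 1 * M 1 + 10 * L 2 * M 2 + 10 * L 3 * M 3 := by
  classical
  have horth : ∀ k l : Fin 4, ∑ χ : Cfsg.IrrCharacter G, (χ : G → ℂ) (el e k) * (χ : G → ℂ) (el e l) =
      if k = l then ((![120, 6, 10, 10] k : ℕ) : ℂ) else 0 := by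
    intro k l
    have h := sum_irr_mul_conj (el e k) (el e l)
    simp only [← apply_inv (isCharacter_irr _), val_inv e ht] at h
    rw [h, ← card_el e ht k]
    refine if_congr ⟨fun hc => ?_, fun hkl => hkl ▸ IsConj.refl _⟩ rfl rfl
    exact rep4_inj k l (isConj_of_t_psi e ht (by decide : Odd 15) (rep4_pow k) (by decide : Odd 15) (rep4_pow l) hc)
  simp only [Finset.sum_mul_sum]
  rw [Finset.sum_comm]
  simp_rw [Finset.sum_comm (γ := Cfsg.IrrCharacter G) (α := Fin 4), mul_mul_mul_comm, ← Finset.mul_sum, horth]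
  simp [Fin.sum_univ_four]
  ring

theorem orth_one (L : Fin 4 → ℂ) :
    ∑ χ : Cfsg.IrrCharacter G, (χ : G → ℂ) 1 * (∑ k, L k * (χ : G → ℂ) (el e k)) = 0 := by
  classical
  simp only [Finset.mul_sum, mul_left_comm _ (L _)]
  rw [Finset.sum_comm]
  simp only [← Finset.mul_sum, sum_degree_mul_apply, el_not_conj_one e ht, if_false, mul_zero,
    Finset.sum_const_zero]

include e

variable (hP : ∃ P : Sylow 2 G, t ∈ P ∧ ∀ x ∈ P, x * t = t * x) [IsSimpleGroup G]
include hP

/-- The class multiplication equation. -/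
theorem class_equation {g : G} {M : ℕ}
    (hM : Nat.card {x : G // x ≠ 1 ∧ x * x = 1 ∧ x * g ≠ 1 ∧ x * g * (x * g) = 1} = M) :
    (Nat.card G : ℂ) * ∑ χ : Cfsg.IrrCharacter G,
      (χ : G → ℂ) g⁻¹ * (χ : G → ℂ) t ^ 2 / (χ : G → ℂ) 1 = M * 14400 := by
  classical
  letI := Fintype.ofFinite G
  have hG : (Nat.card G : ℂ) ≠ 0 := Nat.cast_ne_zero.2 Nat.card_pos.ne'
  have htt : t * t = 1 := t_mul_self ht
  have hinv : ∀ a : G, (a * t * a⁻¹) * (a * t * a⁻¹) = 1 := fun a => by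
    calc (a * t * a⁻¹) * (a * t * a⁻¹) = a * (t * t) * a⁻¹ := by group
      _ = 1 := by rw [htt]; group
  have hne : ∀ a : G, a * t * a⁻¹ ≠ 1 := fun a h => t_ne_one ht (conj_eq_one_iff.1 h)
  have hfib : ∀ x : G, x ≠ 1 → x * x = 1 →
      (Finset.univ.filter fun a : G => a * t * a⁻¹ = x).card = 120 := by
    intro x hx1 hxx
    obtain ⟨c, hc⟩ := isConj_iff.1 (isConj_t e ht hP (orderOf_eq_prime (p := 2) (by rw [pow_two, hxx]) hx1))
    rw [← card_centralizer e, ← Fintype.card_subtype, ← Nat.card_eq_fintype_card]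
    refine Nat.card_congr
      { toFun := fun a => ⟨c⁻¹ * a.1, ?_⟩
        invFun := fun k => ⟨c * k.1, ?_⟩
        left_inv := fun a => Subtype.ext (mul_inv_cancel_left _ _)
        right_inv := fun k => Subtype.ext (inv_mul_cancel_left _ _) }
    · rw [Subgroup.mem_centralizer_singleton_iff]
      calc c⁻¹ * a.1 * t = c⁻¹ * (a.1 * t * a.1⁻¹) * a.1 := by group
        _ = c⁻¹ * (c * t * c⁻¹) * a.1 := by rw [a.2, hc]
        _ = _ := by group
    · have hk := Subgroup.mem_centralizer_singleton_iff.1 k.2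
      calc c * k.1 * t * (c * k.1)⁻¹ = c * (k.1 * t) * k.1⁻¹ * c⁻¹ := by group
        _ = c * (t * k.1) * k.1⁻¹ * c⁻¹ := by rw [hk]
        _ = c * t * c⁻¹ := by group
        _ = x := hc
  set X : Finset G := Finset.univ.filter fun x => x ≠ 1 ∧ x * x = 1 ∧ x * g ≠ 1 ∧ x * g * (x * g) = 1 with hX
  have hXc : X.card = M := by rw [hX, ← Fintype.card_subtype, ← Nat.card_eq_fintype_card, hM]
  have hcount : ∑ a : G, ∑ b : G, (if g⁻¹ * (a * t * a⁻¹) * (b * t * b⁻¹) = 1 then (1 : ℂ) else 0) =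
      M * 14400 := by
    have h1 : ∀ a : G, ∑ b : G, (if g⁻¹ * (a * t * a⁻¹) * (b * t * b⁻¹) = 1 then (1 : ℂ) else 0) =
        if a * t * a⁻¹ ∈ X then 120 else 0 := by
      intro a
      have hiff : ∀ b : G, g⁻¹ * (a * t * a⁻¹) * (b * t * b⁻¹) = 1 ↔ b * t * b⁻¹ = a * t * a⁻¹ * g := by
        intro b
        constructor
        · intro h
          calc b * t * b⁻¹ = (a * t * a⁻¹)⁻¹ * g * (g⁻¹ * (a * t * a⁻¹) * (b * t * b⁻¹)) := by group
            _ = _ := by rw [h, mul_one, inv_eq_of_mul_eq_one_right (hinv a)]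
        · intro h
          rw [h]
          calc g⁻¹ * (a * t * a⁻¹) * (a * t * a⁻¹ * g) = g⁻¹ * ((a * t * a⁻¹) * (a * t * a⁻¹)) * g := by group
            _ = 1 := by rw [hinv]; group
      simp only [hiff]
      rw [Finset.sum_boole]
      by_cases hm : a * t * a⁻¹ ∈ X
      · rw [if_pos hm]
        have hm' := (Finset.mem_filter.1 hm).2
        rw [hfib _ hm'.2.2.1 hm'.2.2.2]
        norm_num
      · rw [if_neg hm, Nat.cast_eq_zero, Finset.card_eq_zero, Finset.filter_eq_empty_iff]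
        intro b _ hb
        exact hm (Finset.mem_filter.2 ⟨Finset.mem_univ _, hne a, hinv a, hb ▸ hne b, hb ▸ hinv b⟩)
    simp only [h1]
    rw [← Finset.sum_filter, Finset.sum_const, nsmul_eq_mul]
    have h2 : (Finset.univ.filter fun a : G => a * t * a⁻¹ ∈ X).card = M * 120 := by
      rw [Finset.card_eq_sum_card_fiberwise (s := Finset.univ.filter fun a : G => a * t * a⁻¹ ∈ X)
        (f := fun a : G => a * t * a⁻¹) (t := X) (fun a ha => (Finset.mem_filter.1 ha).2)]
      rw [Finset.sum_congr rfl fun x hx => ?_, Finset.sum_const, hXc, smul_eq_mul]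
      have hx' := (Finset.mem_filter.1 hx).2
      rw [← hfib x hx'.1 hx'.2.1]
      congr 1
      ext a
      simp only [Finset.mem_filter, Finset.mem_univ, true_and]
      exact ⟨fun h => h.2, fun h => ⟨h ▸ hx, h⟩⟩
    rw [h2]; push_cast; ring
  have key : ∀ χ : Cfsg.IrrCharacter G,
      ∑ a : G, ∑ b : G, (χ : G → ℂ) (g⁻¹ * (a * t * a⁻¹) * (b * t * b⁻¹)) =
        (Nat.card G : ℂ) ^ 2 * (χ : G → ℂ) g⁻¹ * (χ : G → ℂ) t ^ 2 / (χ : G → ℂ) 1 ^ 2 := by
    intro χ
    have h1 := apply_one_ne_zero χ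
    simp only [Cfsg.Agent.Lib.H80.ClassMult.sum_apply_mul_conj, ← Finset.sum_div, ← Finset.sum_mul,
      ← Finset.mul_sum]
    field_simp
  apply mul_left_cancel₀ hG
  rw [← hcount]
  have hsd : ∀ h : G, (Nat.card G : ℂ) * (if h = 1 then (1 : ℂ) else 0) =
      ∑ χ : Cfsg.IrrCharacter G, (χ : G → ℂ) 1 * (χ : G → ℂ) h := fun h => by
    rw [sum_degree_mul_apply]; split_ifs <;> simp
  rw [Finset.mul_sum]
  simp only [Finset.mul_sum, hsd]
  conv_rhs => enter [2, a]; rw [Finset.sum_comm]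
  rw [Finset.sum_comm]
  refine Finset.sum_congr rfl fun χ _ => ?_
  simp only [← Finset.mul_sum, key]
  have h1 := apply_one_ne_zero χ
  field_simp

theorem class_combination (L : Fin 4 → ℂ) :
    ∑ χ : Cfsg.IrrCharacter G, (∑ k, L k * (χ : G → ℂ) (el e k)) * (χ : G → ℂ) t ^ 2 / (χ : G → ℂ) 1 =
      (30 * L 0 + 6 * L 1 + 10 * L 2 + 10 * L 3) * 14400 / Nat.card G := by
  have hG : (Nat.card G : ℂ) ≠ 0 := Nat.cast_ne_zero.2 Nat.card_pos.ne'
  have h : ∀ k, ∑ χ : Cfsg.IrrCharacter G, (χ : G → ℂ) (el e k) * (χ : G → ℂ) t ^ 2 / (χ : G → ℂ) 1 =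
      ((![30, 6, 10, 10] k : ℕ) : ℂ) * 14400 / Nat.card G := by
    intro k
    rw [eq_div_iff hG, ← class_equation e ht hP ((card_pairs e ht (by decide : Odd 15) (rep4_pow k)).trans
      (rep4_pairs k)), mul_comm]
    simp only [← el.eq_1, val_inv e ht]
  simp only [Finset.sum_mul, Finset.sum_div]
  rw [Finset.sum_comm]
  simp only [mul_assoc, mul_div_assoc, ← Finset.mul_sum] at h ⊢
  simp only [h, Fin.sum_univ_four]
  simp
  ring

/-- The two values on the powers of `y` of order five agree for a rational row, which is excluded. -/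
theorem not_bad_row (χ : Cfsg.IrrCharacter G) (hd : (χ : G → ℂ) 1 = 35)
    (hc : Coeff e (χ : G → ℂ) (-1) (-1) (-1) 0) {k : ℕ} (hk : k % 10 = 7)
    (hfix : ∀ g : G, (χ : G → ℂ) (g ^ k) = (χ : G → ℂ) g) : False := by
  classical
  letI := Fintype.ofFinite G
  obtain ⟨hT, hU, hP0, hQ0⟩ := hc
  push_cast at hT hU hP0 hQ0
  rw [el_zero] at hT
  have hT' : (χ : G → ℂ) t = -5 := by rw [hT]; norm_num
  have hU' : (χ : G → ℂ) (el e 1) = 1 := by rw [hU]; norm_num
  have hP' : (χ : G → ℂ) (el e 2) = 0 := by rw [hP0]; linear_combination -beta_add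
  have hQ' : (χ : G → ℂ) (el e 3) = 0 := by rw [hQ0]; linear_combination -beta_add
  have hinv : ∀ x : G, x * x = 1 → x ≠ 1 → (χ : G → ℂ) x = -5 := fun x hx hx1 => by
    rw [← classFunction_apply_of_isConj (isClassFunction_irr χ)
      (isConj_t e ht hP (orderOf_eq_prime (p := 2) (by rw [pow_two, hx]) hx1)), hT']
  have htt := t_mul_self ht
  have hs : (χ : G → ℂ) (psi e s0) = -5 := by
    refine hinv _ ?_ ?_
    · rw [← map_mul, ← map_one (psi e)]; exact congrArg _ (by decide +kernel)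
    · rw [← map_one (psi e)]; exact fun h => absurd (psi_injective e h) (by decide +kernel)
  have hts : (χ : G → ℂ) (t * psi e s0) = -5 := by
    refine hinv _ ?_ ?_
    · rw [← pow_two, t_psi_pow, pow_two, htt, one_mul, ← map_one (psi e)]
      exact congrArg _ (by decide +kernel)
    · intro h
      exact psi_ne_t e ht s0 ((eq_inv_of_mul_eq_one_right h).trans (t_inv ht))
  have hU'' : (χ : G → ℂ) (t * psi e g3) = 1 := hU'
  have hP'' : (χ : G → ℂ) (t * psi e g5) = 0 := hP'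
  have hQ'' : (χ : G → ℂ) (t * psi e (g5 * g5)) = 0 := hQ'
  have h4 := sum_emb e ht χ four (fun h => h = 1 ∨ h = s0 ∨ h = s1 ∨ h = s0 * s1) (fun h => mem_four.symm)
  have h12 := sum_emb e ht χ alt4 (fun h => (h : Equiv.Perm (Fin 5)) 4 = 4) (fun h => Iff.rfl)
  have h60 := sum_emb e ht χ ⊤ (fun _ => True) (fun h => by simp)
  simp only [counts_four, counts_alt4, counts_top, Fin.sum_univ_five, rep5, Matrix.cons_val, map_one, mul_one,
    hd, hT', hs, hts, hU'', hP'', hQ''] at h4 h12 h60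
  norm_num at h4
  rw [sum_eq_zero_of_le χ (emb_mono e four_le_alt4) h4] at h12
  rw [sum_eq_zero_of_le χ (emb_mono e (H := four) le_top) h4] at h60
  push_cast at h12 h60
  have hsum : (χ : G → ℂ) (psi e g5) + (χ : G → ℂ) (psi e (g5 * g5)) = 10 := by
    linear_combination (-1 / 12 : ℂ) * h60 + (5 / 24 : ℂ) * h12
  obtain ⟨hg10, -, -, hg6, hg2, -⟩ := el_pow_ten e ht
  obtain ⟨N0, N1, N2, M0, M1, M2, -, vP, -, v6, v2, p0, p1⟩ := values_ten χ hg10 (el_real e ht 2)
  rw [hg6] at v6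
  rw [hg2] at v2
  rw [hP'] at vP
  have hpow : psi e g5 ^ k = psi e (g5 * g5) := by
    rw [← map_pow, pow_eq_pow_mod k g5_pow, show k % 5 = 2 by omega, pow_two]
  have hfix' := hfix (psi e g5)
  rw [hpow, v6, v2] at hfix'
  have q1 : ((0 : ℤ) : ℂ) + (((2 * (M1 - M2)) : ℤ) : ℂ) * beta + ((M1 - M2 : ℤ) : ℂ) = 0 := by
    push_cast; linear_combination ((M1 : ℂ) - M2) * beta_add - hfix'
  have q1' : ((M1 - M2 : ℤ) : ℂ) + (((2 * (M1 - M2)) : ℤ) : ℂ) * beta = 0 := by
    push_cast at q1 ⊢; linear_combination q1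
  have q2 : ((N0 - N2 : ℤ) : ℂ) + ((N1 - N2 : ℤ) : ℂ) * beta = 0 := by
    push_cast; linear_combination -vP - (N2 : ℂ) * beta_add
  rw [v6, v2] at hsum
  have h5 : ((2 * M0 - M1 - M2 : ℤ) : ℂ) = ((10 : ℤ) : ℂ) := by
    push_cast; linear_combination hsum - ((M1 : ℂ) + M2) * beta_add
  have h5' : 2 * M0 - M1 - M2 = 10 := by exact_mod_cast h5
  obtain ⟨e1, -⟩ := int_lin q1'
  obtain ⟨e2, e3⟩ := int_lin q2
  omega

/-- A unit congruent to 7 modulo 10. -/
theorem exists_unit : ∃ u : (ZMod (Nat.card G))ˣ, BC77.PConj.expo (G := G) u % 10 = 7 := by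
  have h10 : 10 ∣ Nat.card G := by have := card_mod e ht hP; omega
  obtain ⟨u, hu⟩ := ZMod.unitsMap_surjective h10 (ZMod.unitOfCoprime 7 (by norm_num))
  refine ⟨u, ?_⟩
  have h := congrArg (fun x : (ZMod 10)ˣ => (x : ZMod 10).val) hu
  simp only [ZMod.unitsMap_val, ZMod.coe_unitOfCoprime] at h
  rw [BC77.PConj.expo]
  rw [ZMod.val_natCast, ← ZMod.natCast_val] at h
  rwa [ZMod.val_natCast] at h

/-- The order of the group. -/
theorem card_eq : Nat.card G = 175560 := by
  classical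
  letI := Fintype.ofFinite G
  have h120 := card_mod e ht hP
  obtain ⟨u, hu⟩ := exists_unit e ht hP
  set k := BC77.PConj.expo (G := G) u with hk
  have hcop : k.Coprime (Nat.card G) := BC77.PConj.expo_coprime u
  have hk3 : k % 3 ≠ 0 := by
    intro h
    have h3 : 3 ∣ Nat.card G := by omega
    exact absurd (Nat.eq_one_of_dvd_coprimes hcop (Nat.dvd_of_mod_eq_zero h) h3) (by norm_num)
  choose a b b' c hco using exists_coeff e ht (G := G)
  have hn0 : (Nat.card G : ℂ) ≠ 0 := Nat.cast_ne_zero.2 Nat.card_pos.ne'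
  let d : Cfsg.IrrCharacter G → ℤ := fun χ => (Cfsg.charDegree (χ : G → ℂ) : ℤ)
  have hd : ∀ χ : Cfsg.IrrCharacter G, (χ : G → ℂ) 1 = (d χ : ℂ) := fun χ => by
    rw [(H80.ClassMult.deg_spec χ).2]; simp [d]
  have hT : ∀ χ : Cfsg.IrrCharacter G, (χ : G → ℂ) t = ((a χ + 2 * b χ + 2 * b' χ + 4 * c χ : ℤ) : ℂ) :=
    fun χ => by rw [← el_zero e, (hco χ).1]; push_cast; ring
  -- the coefficient rows
  have cst : ∀ χ : Cfsg.IrrCharacter G,
      (a χ : ℂ) = ∑ i, La i * (χ : G → ℂ) (el e i) ∧ (b χ : ℂ) = ∑ i, Lb i * (χ : G → ℂ) (el e i) ∧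
      (b' χ : ℂ) = ∑ i, Lb' i * (χ : G → ℂ) (el e i) ∧ (c χ : ℂ) = ∑ i, Lc i * (χ : G → ℂ) (el e i) ∧
      ((b χ + b' χ - a χ : ℤ) : ℂ) = ∑ i, Lw i * (χ : G → ℂ) (el e i) := by
    intro χ
    obtain ⟨h0, h1, h2, h3⟩ := hco χ
    simp only [Fin.sum_univ_four, La, Lb, Lb', Lc, Lw, Matrix.cons_val, h0, h1, h2, h3]
    have hA := beta_add
    have hB := beta_sq
    have hs : (beta - beta') * (beta - beta') = 5 := by
      linear_combination (4 : ℂ) * hB + (beta' - 3 * beta - 1) * hA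
    push_cast
    refine ⟨?_, ?_, ?_, ?_, ?_⟩
    · linear_combination (-2 / 5 : ℂ) * ((b χ : ℂ) + b' χ) * hA
    · linear_combination (-1 / 10 : ℂ) * ((b χ : ℂ) + b' χ) * hA - ((b χ : ℂ) - b' χ) / 10 * hs
    · linear_combination (-1 / 10 : ℂ) * ((b χ : ℂ) + b' χ) * hA + ((b χ : ℂ) - b' χ) / 10 * hs
    · linear_combination (1 / 5 : ℂ) * ((b χ : ℂ) + b' χ) * hA
    · linear_combination (1 / 5 : ℂ) * ((b χ : ℂ) + b' χ) * hA
  have gram : ∀ (f g : Cfsg.IrrCharacter G → ℤ) (L M : Fin 4 → ℂ) (v : ℤ),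
      (∀ χ : Cfsg.IrrCharacter G, (f χ : ℂ) = ∑ i, L i * (χ : G → ℂ) (el e i)) →
      (∀ χ : Cfsg.IrrCharacter G, (g χ : ℂ) = ∑ i, M i * (χ : G → ℂ) (el e i)) →
      120 * L 0 * M 0 + 6 * L 1 * M 1 + 10 * L 2 * M 2 + 10 * L 3 * M 3 = (v : ℂ) →
      ∑ χ, f χ * g χ = v := by
    intro f g L M v hf hg hv
    apply Int.cast_injective (α := ℂ)
    rw [← hv, ← orth e ht L M]
    push_cast
    exact Finset.sum_congr rfl fun χ _ => by rw [hf, hg]
  have dsum : ∀ (f : Cfsg.IrrCharacter G → ℤ) (L : Fin 4 → ℂ),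
      (∀ χ : Cfsg.IrrCharacter G, (f χ : ℂ) = ∑ i, L i * (χ : G → ℂ) (el e i)) →
      ∑ χ, d χ * f χ = 0 := by
    intro f L hf
    apply Int.cast_injective (α := ℂ)
    push_cast
    rw [← orth_one e ht L]
    exact Finset.sum_congr rfl fun χ _ => by rw [hd, hf]
  have clseq : ∀ (f : Cfsg.IrrCharacter G → ℤ) (L : Fin 4 → ℂ) (v : ℚ),
      (∀ χ : Cfsg.IrrCharacter G, (f χ : ℂ) = ∑ i, L i * (χ : G → ℂ) (el e i)) →
      (30 * L 0 + 6 * L 1 + 10 * L 2 + 10 * L 3) * 14400 = (v : ℂ) →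
      ∑ χ, (f χ : ℚ) * ((a χ + 2 * b χ + 2 * b' χ + 4 * c χ : ℤ) : ℚ) ^ 2 / (d χ : ℚ) =
        v / (Nat.card G : ℚ) := by
    intro f L v hf hv
    apply Rat.cast_injective (α := ℂ)
    rw [Rat.cast_div, Rat.cast_natCast, ← hv, ← class_combination e ht hP L, Rat.cast_sum]
    refine Finset.sum_congr rfl fun χ _ => ?_
    simp only [Rat.cast_div, Rat.cast_mul, Rat.cast_pow, Rat.cast_intCast]
    rw [hf, hd, hT]
  have hTe : ∀ i, el e i ^ 15 = t := el_pow_fifteen e ht
  obtain ⟨h10, -, h7, -, -, h37⟩ := el_pow_ten e ht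
  obtain ⟨h6, -⟩ := el_pow_six e ht
  -- the Galois action
  let σ : Cfsg.IrrCharacter G ≃ Cfsg.IrrCharacter G := MulAction.toPerm u
  have hσv : ∀ (χ : Cfsg.IrrCharacter G) (g : G), (σ χ : G → ℂ) g = (χ : G → ℂ) (g ^ k) := fun _ _ => rfl
  have hσc : ∀ χ, Coeff e (σ χ : G → ℂ) (a χ) (b' χ) (b χ) (c χ) := by
    intro χ
    obtain ⟨h0, h1, h2, h3⟩ := hco χ
    have hconj : ∀ {x y : G}, IsConj x y → (χ : G → ℂ) y = (χ : G → ℂ) x := fun h =>
      (classFunction_apply_of_isConj (isClassFunction_irr χ) h).symm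
    have ht2 : t ^ k = t := by
      rw [pow_eq_pow_mod k (show t ^ 2 = 1 by rw [pow_two, t_mul_self ht]), show k % 2 = 1 by omega, pow_one]
    have h3' : el e 3 ^ 10 = 1 := by rw [← h7, ← pow_mul, mul_comm, pow_mul, h10, one_pow]
    refine ⟨?_, ?_, ?_, ?_⟩ <;> rw [hσv]
    · rw [el_zero, ht2, ← el_zero e, h0]; ring
    · have : (χ : G → ℂ) (el e 1 ^ k) = (χ : G → ℂ) (el e 1) := by
        rw [pow_eq_pow_mod k h6]
        rcases (show k % 6 = 1 ∨ k % 6 = 5 by omega) with h | h <;> rw [h]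
        · rw [pow_one]
        · rw [show el e 1 ^ 5 = (el e 1)⁻¹ from eq_inv_of_mul_eq_one_left (by rw [← pow_succ, h6]), val_inv e ht]
      rw [this, h1]; ring
    · rw [pow_eq_pow_mod k h10, hu, h7, h3]; ring
    · rw [pow_eq_pow_mod k h3', hu, h37, val_inv e ht, h2]; ring
  have hσu : ∀ χ, a (σ χ) = a χ ∧ b (σ χ) = b' χ ∧ b' (σ χ) = b χ ∧ c (σ χ) = c χ := fun χ =>
    coeff_unique e (hco (σ χ)) (hσc χ)
  -- the trivial character
  have hone : a (oneChar G) = 1 ∧ b (oneChar G) = 0 ∧ b' (oneChar G) = 0 ∧ c (oneChar G) = 0 := by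
    refine coeff_unique e (hco _) ⟨?_, ?_, ?_, ?_⟩ <;> simp [oneChar_apply]
  -- the congruence
  have hcong : ∀ χ, (8 : ℤ) ∣ d χ - (a χ + 2 * b χ + 2 * b' χ + 4 * c χ) := by
    intro χ
    obtain ⟨m, hm⟩ := H80.ClassMult.exists_sum_subgroup χ (emb e four).range
    have hcard : Nat.card ↥(emb e four).range = 8 := by
      rw [← Nat.card_congr (MonoidHom.ofInjective (emb_injective e four)).toEquiv, Nat.card_prod, card_four,
        Nat.card_eq_fintype_card]
      rfl
    rw [sum_emb e ht χ four (fun h => h = 1 ∨ h = s0 ∨ h = s1 ∨ h = s0 * s1) (fun h => mem_four.symm),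
      hcard] at hm
    have hinv : ∀ x : G, x * x = 1 → x ≠ 1 → (χ : G → ℂ) x = (χ : G → ℂ) t := fun x hx hx1 =>
      (classFunction_apply_of_isConj (isClassFunction_irr χ)
        (isConj_t e ht hP (orderOf_eq_prime (p := 2) (by rw [pow_two, hx]) hx1))).symm
    have hs : (χ : G → ℂ) (psi e s0) = (χ : G → ℂ) t := by
      refine hinv _ ?_ ?_
      · rw [← map_mul, ← map_one (psi e)]; exact congrArg _ (by decide +kernel)
      · rw [← map_one (psi e)]; exact fun h => absurd (psi_injective e h) (by decide +kernel)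
    have hts : (χ : G → ℂ) (t * psi e s0) = (χ : G → ℂ) t := by
      refine hinv _ ?_ ?_
      · rw [← pow_two, t_psi_pow, pow_two, t_mul_self ht, one_mul, ← map_one (psi e)]
        exact congrArg _ (by decide +kernel)
      · intro h
        exact psi_ne_t e ht s0 ((eq_inv_of_mul_eq_one_right h).trans (t_inv ht))
    simp only [counts_four, Fin.sum_univ_five, rep5, Matrix.cons_val, map_one, mul_one, hs, hts] at hm
    rw [hd, hT] at hm
    have hm' : d χ + 7 * (a χ + 2 * b χ + 2 * b' χ + 4 * c χ) = 8 * (m : ℤ) := by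
      apply Int.cast_injective (α := ℂ)
      push_cast at hm ⊢
      linear_combination hm
    omega
  have hsq : ∑ χ, d χ * d χ = (Nat.card G : ℤ) := by
    apply Int.cast_injective (α := ℂ)
    push_cast
    have h := sum_degree_mul_apply (G := G) 1
    rw [if_pos rfl] at h
    simp only [← hd]
    exact h
  have hA := fun χ => (cst χ).1
  have hB := fun χ => (cst χ).2.1
  have hB' := fun χ => (cst χ).2.2.1
  have hC := fun χ => (cst χ).2.2.2.1
  have hW := fun χ => (cst χ).2.2.2.2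
  have hsb : (beta - beta') * (beta - beta') = 5 := by
    linear_combination (4 : ℂ) * beta_sq + (beta' - 3 * beta - 1) * beta_add
  let X : Rows.Table (Nat.card G) (Cfsg.IrrCharacter G) :=
    { o := oneChar G, d := d, a := a, b := b, b' := b', c := c, σ := σ
      d_pos := fun χ => by simp only [d]; exact_mod_cast (H80.ClassMult.deg_spec χ).1
      d_o := by
        apply Int.cast_injective (α := ℂ)
        rw [← hd, oneChar_apply]; norm_num
      a_o := hone.1, b_o := hone.2.1, b'_o := hone.2.2.1, c_o := hone.2.2.2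
      σ_d := fun χ => by
        apply Int.cast_injective (α := ℂ)
        rw [← hd, ← hd, hσv, one_pow]
      σ_a := fun χ => (hσu χ).1
      σ_b := fun χ => (hσu χ).2.1
      σ_b' := fun χ => (hσu χ).2.2.1
      σ_c := fun χ => (hσu χ).2.2.2
      aa := gram a a La La 8 hA hA (by simp [La]; norm_num)
      bb := gram b b Lb Lb 4 hB hB (by simp [Lb]; linear_combination (1 / 5 : ℂ) * hsb)
      b'b' := gram b' b' Lb' Lb' 4 hB' hB' (by simp [Lb']; linear_combination (1 / 5 : ℂ) * hsb)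
      cc := gram c c Lc Lc 2 hC hC (by simp [Lc]; norm_num)
      ab := gram a b La Lb 4 hA hB (by simp [La, Lb]; ring)
      ab' := gram a b' La Lb' 4 hA hB' (by simp [La, Lb']; ring)
      bb' := gram b b' Lb Lb' 2 hB hB' (by simp [Lb, Lb']; linear_combination (-1 / 5 : ℂ) * hsb)
      ac := gram a c La Lc 0 hA hC (by simp [La, Lc]; norm_num)
      bc := gram b c Lb Lc 0 hB hC (by simp [Lb, Lc]; ring)
      b'c := gram b' c Lb' Lc 0 hB' hC (by simp [Lb', Lc]; ring)
      da := dsum a La hA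
      db := dsum b Lb hB
      db' := dsum b' Lb' hB'
      dc := dsum c Lc hC
      sum_sq := hsq
      cong := hcong
      eq_w := clseq (fun χ => b χ + b' χ - a χ) Lw (-86400) hW (by simp [Lw]; norm_num)
      eq_b := clseq b Lb 57600 hB (by simp [Lb]; ring)
      eq_c := (clseq c Lc 0 hC (by simp [Lc]; norm_num)).trans (zero_div _) }
  rcases Rows.order_eq X h120 with h | ⟨-, χ, hd35, hfix, ha, hb, hb', hc⟩
  · exact h
  exfalso
  refine not_bad_row e ht hP χ ?_ ?_ hu (fun g => ?_)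
  · rw [hd, show d χ = 35 from hd35]; norm_num
  · have := hco χ
    rwa [show a χ = -1 from ha, show b χ = -1 from hb, show b' χ = -1 from hb', show c χ = 0 from hc] at this
  · rw [← hσv, show σ χ = χ from hfix]

end Cfsg.Agent.Lib.J1Order.Values
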